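import Mathlib
import Cfsg.Agent.Lib.SpectrumEight.Bound

/-!
The fourteen orders for `Ω₉(q)`, `q` odd, and the combinatorics of eigenvalue multisets.
-/

set_option autoImplicit false

namespace Cfsg.Agent.Lib.SpectrumNine

open SpectrumEight (dKey sKey kExp)

/-- Half of the dimension of the fixed space. -/
def cRow : Fin 14 → ℕ := ![0, 0, 0, 0, 1, 1, 1, 1, 1, 2, 2, 3, 3, 4]

/-- The semisimple parts. -/
def LRow (q : ℕ) : Fin 14 → ℕ :=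
  ![(q ^ 4 + 1) / 2, (q ^ 4 - 1) / 2, (q ^ 3 - 1) * ((q + 1) / 2), (q ^ 3 + 1) * ((q - 1) / 2),
    (q ^ 3 + 1) / 2, (q ^ 3 - 1) / 2, (q ^ 2 + 1) * ((q + 1) / 2), (q ^ 2 + 1) * ((q - 1) / 2), q ^ 2 - 1,
    (q ^ 2 + 1) / 2, (q ^ 2 - 1) / 2, (q + 1) / 2, (q - 1) / 2, 1]

/-- The unipotent exponent. -/
def pBound (p c : ℕ) : ℕ := if c = 0 then 1 else p ^ (Nat.log p (2 * c - 1) + 1)

/-- The classes contained in a row. -/
def allowK : Fin 14 → List (Fin 8) :=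
  ![[], [4, 5, 6, 7], [2, 6, 7], [3, 6, 7], [], [], [5, 7], [5, 6], [4, 6, 7], [], [6, 7], [], [], []]

/-- The classes contained in a row when they are alone. -/
def halfK : Fin 14 → List (Fin 8) :=
  ![[1], [0], [], [], [3], [2], [], [], [], [5], [4], [7], [6], []]

/-- The rows with even semisimple part. -/
def negOK (b : Bool) : Fin 14 → Bool :=
  ![false, true, true, true, false, false, true, true, true, false, true, !b, b, false]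

theorem pBound_ge {p : ℕ} (hp : 2 ≤ p) (hpo : Odd p) (c : ℕ) : 2 * c + 1 ≤ pBound p c := by
  unfold pBound
  split_ifs with h
  · omega
  · have h1 := Nat.lt_pow_succ_log_self (by omega : 1 < p) (2 * c - 1)
    rw [Nat.succ_eq_add_one] at h1
    obtain ⟨k, hk⟩ := hpo.pow (n := Nat.log p (2 * c - 1) + 1)
    omega

theorem odd_pBound {p : ℕ} (hpo : Odd p) (c : ℕ) : Odd (pBound p c) := by
  unfold pBound
  split_ifs
  · exact odd_one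
  · exact hpo.pow

theorem kExp_dvd {q : ℕ} (hq : Odd q) (j : Fin 14) (k : Fin 8) (h : k ∈ allowK j) :
    kExp q k ∣ LRow q j := by
  obtain ⟨r, rfl⟩ := hq
  have h1 : ((2 * r + 1) + 1) / 2 = r + 1 := by omega
  have h2 : ((2 * r + 1) - 1) / 2 = r := by omega
  have e1 : (2 * r + 1) ^ 2 - 1 = (2 * r + 2) * (2 * r) := by
    rw [Nat.sub_eq_iff_eq_add (Nat.one_le_pow _ _ (by omega))]; ring
  have e4 : ((2 * r + 1) ^ 4 - 1) / 2 = ((2 * r + 1) ^ 2 + 1) * (2 * r * (r + 1)) := by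
    rw [Nat.div_eq_of_eq_mul_left (by norm_num)]
    rw [Nat.sub_eq_iff_eq_add (Nat.one_le_pow _ _ (by omega))]; ring
  have e2 : ((2 * r + 1) ^ 2 - 1) / 2 = (2 * r) * (r + 1) := by
    rw [Nat.div_eq_of_eq_mul_left (by norm_num)]
    rw [e1]; ring
  obtain ⟨u, hu⟩ : 2 ∣ (2 * r + 1) ^ 3 - 1 :=
    (Nat.Odd.sub_odd (Odd.pow (odd_two_mul_add_one r)) odd_one).two_dvd
  obtain ⟨v, hv⟩ : 2 ∣ (2 * r + 1) ^ 3 + 1 :=
    (Odd.add_one (Odd.pow (odd_two_mul_add_one r))).two_dvd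
  obtain ⟨w, hw⟩ : 2 ∣ (2 * r + 1) ^ 2 + 1 :=
    (Odd.add_one (Odd.pow (odd_two_mul_add_one r))).two_dvd
  have h3 : (2 * r) ∣ (2 * r + 1) ^ 3 - 1 := by
    simpa using Nat.sub_dvd_pow_sub_pow (2 * r + 1) 1 3
  have h4 : (2 * r + 2) ∣ (2 * r + 1) ^ 3 + 1 := by
    simpa using (Odd.nat_add_dvd_pow_add_pow (2 * r + 1) 1 (n := 3) (by decide))
  have hs : 2 * r + 1 + 1 = 2 * r + 2 := rfl
  have d14 : (2 * r + 1) ^ 2 - 1 ∣ ((2 * r + 1) ^ 4 - 1) / 2 := ⟨w, by rw [e4, e1, hw]; ring⟩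
  have d15 : (2 * r + 1) ^ 2 + 1 ∣ ((2 * r + 1) ^ 4 - 1) / 2 := ⟨2 * r * (r + 1), e4⟩
  have d16 : 2 * r ∣ ((2 * r + 1) ^ 4 - 1) / 2 := ⟨((2 * r + 1) ^ 2 + 1) * (r + 1), by rw [e4]; ring⟩
  have d17 : 2 * r + 1 + 1 ∣ ((2 * r + 1) ^ 4 - 1) / 2 := ⟨((2 * r + 1) ^ 2 + 1) * r, by rw [e4]; ring⟩
  have d27 : 2 * r + 1 + 1 ∣ ((2 * r + 1) ^ 3 - 1) * (r + 1) := ⟨u, by rw [hu]; ring⟩
  have d36 : 2 * r ∣ ((2 * r + 1) ^ 3 + 1) * r := ⟨v, by rw [hv]; ring⟩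
  have d67 : 2 * r + 1 + 1 ∣ ((2 * r + 1) ^ 2 + 1) * (r + 1) := ⟨w, by rw [hw]; ring⟩
  have d76 : 2 * r ∣ ((2 * r + 1) ^ 2 + 1) * r := ⟨w, by rw [hw]; ring⟩
  have d86 : 2 * r ∣ (2 * r + 1) ^ 2 - 1 := ⟨2 * r + 2, by rw [e1]; ring⟩
  have d87 : 2 * r + 1 + 1 ∣ (2 * r + 1) ^ 2 - 1 := ⟨2 * r, by rw [e1]⟩
  have d106 : 2 * r ∣ ((2 * r + 1) ^ 2 - 1) / 2 := ⟨r + 1, e2⟩
  have d107 : 2 * r + 1 + 1 ∣ ((2 * r + 1) ^ 2 - 1) / 2 := ⟨r, by rw [e2]; ring⟩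
  fin_cases j <;> fin_cases k <;>
    simp [allowK, kExp, SpectrumEight.sKey, SpectrumEight.dKey, LRow, h1, h2] at h ⊢ <;>
    first
    | exact h
    | exact dvd_mul_of_dvd_left h3 _
    | exact dvd_mul_of_dvd_left h4 _
    | exact ⟨_, rfl⟩
    | exact dvd_mul_right _ _
    | exact d14
    | exact d15
    | exact d16
    | exact d17
    | exact d27
    | exact d36
    | exact d67
    | exact d76
    | exact d86
    | exact d87
    | exact d106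
    | exact d107

theorem kExp_half {q : ℕ} (j : Fin 14) (k : Fin 8) (h : k ∈ halfK j) : LRow q j = kExp q k / 2 := by
  fin_cases j <;> fin_cases k <;>
    simp [halfK, kExp, SpectrumEight.sKey, SpectrumEight.dKey, LRow] at h ⊢

theorem even_LRow {q : ℕ} (hq : Odd q) (j : Fin 14) (h : negOK (decide (q % 4 = 1)) j = true) :
    Even (LRow q j) := by
  obtain ⟨r, rfl⟩ := hq
  have a3 : Even ((2 * r + 1) ^ 3 + 1) := Odd.add_one (Odd.pow (odd_two_mul_add_one r))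
  have b3 : Even ((2 * r + 1) ^ 3 - 1) := Nat.Odd.sub_odd (Odd.pow (odd_two_mul_add_one r)) odd_one
  have a2 : Even ((2 * r + 1) ^ 2 + 1) := Odd.add_one (Odd.pow (odd_two_mul_add_one r))
  have b2 : Even ((2 * r + 1) ^ 2 - 1) := Nat.Odd.sub_odd (Odd.pow (odd_two_mul_add_one r)) odd_one
  have e4 : Even (((2 * r + 1) ^ 4 - 1) / 2) :=
    ⟨2 * (r * (r + 1)) * (2 * r ^ 2 + 2 * r + 1), by
      rw [Nat.div_eq_of_eq_mul_left (by norm_num)]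
      rw [Nat.sub_eq_iff_eq_add (Nat.one_le_pow _ _ (by omega))]; ring⟩
  have e2 : Even (((2 * r + 1) ^ 2 - 1) / 2) :=
    ⟨r * (r + 1), by
      rw [Nat.div_eq_of_eq_mul_left (by norm_num)]
      rw [Nat.sub_eq_iff_eq_add (Nat.one_le_pow _ _ (by omega))]; ring⟩
  fin_cases j <;> simp [negOK, LRow] at h ⊢ <;>
    first
    | exact e4
    | exact e2
    | exact b2
    | exact a3.mul_right _
    | exact b3.mul_right _
    | exact a2.mul_right _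
    | (rw [Nat.even_iff]; omega)

/-- The test for a row. -/
def okRow (b : Bool) (m : ℕ) (n : Fin 8 → ℕ) (j : Fin 14) : Bool :=
  decide ((∀ k, n k ≠ 0 → k ∈ allowK j ∨ (k ∈ halfK j ∧ m = 0 ∧ ∑ i, n i = 1)) ∧
    (m ≠ 0 → negOK b j = true) ∧ 4 ≤ m + (∑ i, dKey i * n i) + cRow j ∧
    (∀ k, n k ≤ 2 * cRow j + 1) ∧ m ≤ cRow j + 1)

theorem table_cover : ∀ (b : Bool) (m : Fin 5) (a₁ a₂ a₃ a₄ : Fin 2) (e f : Fin 3) (g h : Fin 5),
    m.val + (4 * (a₁.val + a₂.val) + 3 * (a₃.val + a₄.val) + 2 * (e.val + f.val) + (g.val + h.val)) ≤ 4 →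
    (List.finRange 14).any (fun j => okRow b m.val
      ![a₁.val, a₂.val, a₃.val, a₄.val, e.val, f.val, g.val, h.val] j) = true := by
  decide +kernel

theorem cover (b : Bool) (m : ℕ) (n : Fin 8 → ℕ) (h : m + ∑ k, dKey k * n k ≤ 4) :
    ∃ j : Fin 14, (∀ k, n k ≠ 0 → k ∈ allowK j ∨ (k ∈ halfK j ∧ m = 0 ∧ ∑ i, n i = 1)) ∧
      (m ≠ 0 → negOK b j = true) ∧ 4 ≤ m + (∑ i, dKey i * n i) + cRow j ∧
      (∀ k, n k ≤ 2 * cRow j + 1) ∧ m ≤ cRow j + 1 := by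
  have hs : ∑ k, dKey k * n k =
      4 * (n 0 + n 1) + 3 * (n 2 + n 3) + 2 * (n 4 + n 5) + (n 6 + n 7) := by
    simp [Fin.sum_univ_eight, SpectrumEight.dKey]; ring
  rw [hs] at h
  have hn : n = ![n 0, n 1, n 2, n 3, n 4, n 5, n 6, n 7] := by
    funext k; fin_cases k <;> rfl
  have := table_cover b ⟨m, by omega⟩ ⟨n 0, by omega⟩ ⟨n 1, by omega⟩ ⟨n 2, by omega⟩ ⟨n 3, by omega⟩
    ⟨n 4, by omega⟩ ⟨n 5, by omega⟩ ⟨n 6, by omega⟩ ⟨n 7, by omega⟩ h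
  rw [List.any_eq_true] at this
  obtain ⟨j, -, hj⟩ := this
  simp only [← hn, okRow, decide_eq_true_eq] at hj
  exact ⟨j, hj⟩

end Cfsg.Agent.Lib.SpectrumNine
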