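import Mathlib
import Cfsg.Agent.Lib.SpectrumNine.Table

/-!
A multiset of nine eigenvalues stable under `x ↦ x ^ q` and inversion, with product one and square spinor
value, fits one of the fourteen rows.
-/

set_option autoImplicit false

namespace Cfsg.Agent.Lib.SpectrumNine

open SpectrumEight (dKey sKey kExp)

variable {K : Type*} [Field K]

/-- The class `k` of `x`. -/
def InCls (q : ℕ) (k : Fin 8) (x : K) : Prop :=
  x * x ≠ 1 ∧ x ^ q ^ dKey k = (if sKey k then x⁻¹ else x) ∧
    ∀ i, 0 < i → i < dKey k → x ^ q ^ i ≠ x ∧ x ^ q ^ i ≠ x⁻¹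

theorem dKey_pos (k : Fin 8) : 0 < dKey k := by
  fin_cases k <;> simp [SpectrumEight.dKey]

theorem InCls.ne_one {q : ℕ} {k : Fin 8} {x : K} (h : InCls q k x) : x ≠ 1 := fun e => h.1 (by simp [e])

theorem InCls.ne_neg {q : ℕ} {k : Fin 8} {x : K} (h : InCls q k x) : x ≠ -1 := fun e => h.1 (by simp [e])

theorem InCls.pow_eq_one {q : ℕ} (hq : q ≠ 0) {k : Fin 8} {x : K} (hx0 : x ≠ 0) (h : InCls q k x) :
    x ^ kExp q k = 1 := by
  have h2 := h.2.1
  unfold SpectrumEight.kExp
  split_ifs with hs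
  · rw [if_pos hs] at h2
    rw [pow_succ, h2, inv_mul_cancel₀ hx0]
  · rw [if_neg hs] at h2
    rw [pow_sub₀ _ hx0 (Nat.one_le_iff_ne_zero.2 (pow_ne_zero _ hq)), h2, pow_one, mul_inv_cancel₀ hx0]

theorem key_ext : ∀ k k' : Fin 8, dKey k = dKey k' → sKey k = sKey k' → k = k' := by
  decide +kernel

theorem InCls.unique {q : ℕ} {k k' : Fin 8} {x : K} (hx0 : x ≠ 0) (hk : InCls q k x) (hk' : InCls q k' x) :
    k = k' := by
  have hd : dKey k = dKey k' := by
    rcases lt_trichotomy (dKey k) (dKey k') with h | h | h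
    · have := hk'.2.2 _ (dKey_pos k) h
      have e := hk.2.1
      split_ifs at e
      · exact absurd e this.2
      · exact absurd e this.1
    · exact h
    · have := hk.2.2 _ (dKey_pos k') h
      have e := hk'.2.1
      split_ifs at e
      · exact absurd e this.2
      · exact absurd e this.1
  refine key_ext k k' hd ?_
  have hinv : x⁻¹ ≠ x := fun e => hk.1 (by
    nth_rw 1 [← e]; exact inv_mul_cancel₀ hx0)
  have e := hk.2.1
  have e' := hk'.2.1
  rw [hd] at e
  have e' : (if sKey k' then x⁻¹ else x) = (if sKey k then x⁻¹ else x) := e'.symm.trans e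
  by_contra hne
  cases h1 : sKey k <;> cases h2 : sKey k'
  · exact hne (h1.trans h2.symm)
  · exact hinv (by simpa only [h1, h2, Bool.false_eq_true, if_false, if_true] using e')
  · exact hinv (Eq.symm (by simpa only [h1, h2, Bool.false_eq_true, if_false, if_true] using e'))
  · exact hne (h1.trans h2.symm)

variable [DecidableEq K]

/-- The orbit of `x` under `x ↦ x ^ q` and inversion. -/
def orb (q d : ℕ) (x : K) : Finset K :=
  (Finset.range d).image (fun i => x ^ q ^ i) ∪ (Finset.range d).image (fun i => (x ^ q ^ i)⁻¹)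

theorem orb_facts {q : ℕ} (hit : ∀ i : ℕ, Function.Injective fun x : K => x ^ q ^ i) {d : ℕ} {x : K}
    (hx1 : x * x ≠ 1) (hx0 : x ≠ 0) (hmin : ∀ i, 0 < i → i < d → x ^ q ^ i ≠ x ∧ x ^ q ^ i ≠ x⁻¹) :
    (orb q d x).card = 2 * d ∧ Disjoint ((Finset.range d).image (fun i => x ^ q ^ i))
      ((Finset.range d).image (fun i => (x ^ q ^ i)⁻¹)) ∧
      Set.InjOn (fun i => x ^ q ^ i) (Finset.range d : Set ℕ) := by
  have hlt : ∀ i j, i < j → j < d → x ^ q ^ i ≠ x ^ q ^ j ∧ (x ^ q ^ i)⁻¹ ≠ x ^ q ^ j := by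
    intro i j hij hjd
    have h := hmin (j - i) (by omega) (by omega)
    have he : x ^ q ^ j = (x ^ q ^ (j - i)) ^ q ^ i := by
      rw [← pow_mul, ← pow_add, Nat.sub_add_cancel hij.le]
    rw [he, ← inv_pow]
    exact ⟨fun e => h.1 (hit i e).symm, fun e => h.2 (hit i e).symm⟩
  have hinj1 : Set.InjOn (fun i => x ^ q ^ i) (Finset.range d : Set ℕ) := by
    intro i hi j hj e
    simp only [Finset.coe_range, Set.mem_Iio] at hi hj
    rcases lt_trichotomy i j with h | h | h
    · exact absurd e (hlt i j h hj).1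
    · exact h
    · exact absurd e.symm (hlt j i h hi).1
  have hinj2 : Set.InjOn (fun i => (x ^ q ^ i)⁻¹) (Finset.range d : Set ℕ) := fun i hi j hj e =>
    hinj1 hi hj (inv_injective e)
  have hdisj : Disjoint ((Finset.range d).image (fun i => x ^ q ^ i))
      ((Finset.range d).image (fun i => (x ^ q ^ i)⁻¹)) := by
    rw [Finset.disjoint_left]
    intro y hy hy'
    obtain ⟨i, hi, rfl⟩ := Finset.mem_image.1 hy
    obtain ⟨j, hj, e⟩ := Finset.mem_image.1 hy'
    rw [Finset.mem_range] at hi hj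
    rcases lt_trichotomy i j with h | h | h
    · exact (hlt i j h hj).2 (by rw [← e, inv_inv])
    · subst h
      refine hx1 (hit i ?_)
      show (x * x) ^ q ^ i = 1 ^ q ^ i
      rw [one_pow, mul_pow]
      nth_rw 1 [← e]
      exact inv_mul_cancel₀ (pow_ne_zero _ hx0)
    · exact (hlt j i h hi).2 e
  refine ⟨?_, hdisj, hinj1⟩
  rw [orb, Finset.card_union_of_disjoint hdisj, Finset.card_image_of_injOn hinj1,
    Finset.card_image_of_injOn hinj2, Finset.card_range, two_mul]

/-- The half order criterion: `Z = ∏ (1 + y)` over an orbit being a square of the base field. -/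
theorem half_order {q : ℕ} (hq : Odd q) (φ : K →+* K) (hφ : ∀ y, φ y = y ^ q)
    {k : Fin 8} {x : K} (hx : InCls q k x) (hx0 : x ≠ 0) {t : K} (ht : t ^ q = t) (ht0 : t ≠ 0)
    (hZ : (∏ i ∈ Finset.range (dKey k), (1 + x ^ q ^ i)) *
      (∏ i ∈ Finset.range (dKey k), (1 + (x ^ q ^ i)⁻¹)) = t * t) :
    x ^ (kExp q k / 2) = 1 := by
  set d := dKey k with hd
  set A := ∏ i ∈ Finset.range d, (1 + x ^ q ^ i) with hA
  set N := ∏ i ∈ Finset.range d, x ^ q ^ i with hN
  have hN0 : N ≠ 0 := Finset.prod_ne_zero_iff.2 fun i _ => pow_ne_zero _ hx0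
  have hAN : (∏ i ∈ Finset.range d, (1 + (x ^ q ^ i)⁻¹)) * N = A := by
    rw [hN, hA, ← Finset.prod_mul_distrib]
    exact Finset.prod_congr rfl fun i _ => by
      rw [add_mul, one_mul, inv_mul_cancel₀ (pow_ne_zero _ hx0), add_comm]
  have hsq : A * A = t * t * N := by
    calc A * A = A * ((∏ i ∈ Finset.range d, (1 + (x ^ q ^ i)⁻¹)) * N) := by rw [hAN]
      _ = t * t * N := by rw [← mul_assoc, hZ]
  have hA0 : A ≠ 0 := fun h => mul_ne_zero (mul_ne_zero ht0 ht0) hN0 (by rw [← hsq, h, mul_zero])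
  have hAq : A ^ q * (1 + x) = A * (1 + x ^ q ^ d) := by
    have h1 : A ^ q = ∏ i ∈ Finset.range d, (1 + x ^ q ^ (i + 1)) := by
      rw [← hφ, hA, map_prod]
      exact Finset.prod_congr rfl fun i _ => by rw [map_add, map_one, hφ, ← pow_mul, ← pow_succ]
    have h2 := Finset.prod_range_succ' (fun i => 1 + x ^ q ^ i) d
    rw [Finset.prod_range_succ, ← hA, ← h1, pow_zero, pow_one] at h2
    exact h2.symm
  obtain ⟨r, hr⟩ := hq
  have h1x : 1 + x ≠ 0 := fun h => hx.ne_neg (by linear_combination h)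
  have hNr : N ^ r = x ^ ((∑ i ∈ Finset.range d, q ^ i) * r) := by
    rw [hN, Finset.prod_pow_eq_pow_sum, ← pow_mul]
  have hgeom : 2 * ((∑ i ∈ Finset.range d, q ^ i) * r) + 1 = q ^ d := by
    have := geom_sum_mul_of_one_le (show 1 ≤ q by omega) d
    have h1 : 1 ≤ q ^ d := Nat.one_le_pow _ _ (by omega)
    rw [show 2 * ((∑ i ∈ Finset.range d, q ^ i) * r) = (∑ i ∈ Finset.range d, q ^ i) * (q - 1) by
      rw [show q - 1 = 2 * r by omega]; ring]
    omega
  -- `A ^ (q - 1) = N ^ ((q - 1) / 2)`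
  have hAN' : A ^ (2 * r) = N ^ r := by
    have ht1 : t ^ (2 * r) = 1 := mul_right_cancel₀ ht0 (by rw [← pow_succ, ← hr, ht, one_mul])
    calc A ^ (2 * r) = (A * A) ^ r := by rw [pow_mul, pow_two]
      _ = t ^ (2 * r) * N ^ r := by rw [hsq, mul_pow, pow_mul, pow_two]
      _ = N ^ r := by rw [ht1, one_mul]
  have hA2 : A ^ (2 * r) * (1 + x) = 1 + x ^ q ^ d := by
    refine mul_left_cancel₀ hA0 ?_
    rw [← mul_assoc, ← pow_succ', ← hr]
    exact hAq
  rw [hAN', hNr] at hA2
  set E := (∑ i ∈ Finset.range d, q ^ i) * r with hE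
  have hxq := hx.2.1
  unfold SpectrumEight.kExp
  rw [← hd] at hxq ⊢
  split_ifs at hxq ⊢ with hs
  · -- minus
    rw [hxq] at hA2
    rw [show (q ^ d + 1) / 2 = E + 1 by omega, pow_succ]
    refine mul_right_cancel₀ h1x ?_
    rw [one_mul, mul_right_comm, hA2, add_mul, one_mul, inv_mul_cancel₀ hx0, add_comm]
  · rw [hxq] at hA2
    rw [show (q ^ d - 1) / 2 = E by omega]
    exact mul_right_cancel₀ h1x (by rw [one_mul]; exact hA2)

/-- The fourteen rows suffice. -/
theorem exists_row {q p : ℕ} (hp : 2 ≤ p) (hpo : Odd p) (hq : Odd q) (h2 : (2 : K) ≠ 0)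
    (φ : K →+* K) (hφ : ∀ y, φ y = y ^ q)
    (R : Multiset K) (hcard : Multiset.card R = 9) (h0 : (0 : K) ∉ R)
    (hF : R.map (· ^ q) = R) (hI : R.map (·⁻¹) = R) (hprod : R.prod = 1)
    (hspin : (-1 : K) ∉ R → ∃ s : K, s ^ q = s ∧ s ≠ 0 ∧ (R.map (1 + ·)).prod = 2 ^ 9 * (s * s)) :
    ∃ j : Fin 14, ∀ x ∈ R, x ^ LRow q j = 1 ∧
      R.count x ≤ pBound p (cRow j) + (if x = -1 then 1 else 0) := by
  have hq0 : q ≠ 0 := by obtain ⟨r, rfl⟩ := hq; omega
  have hinj : Function.Injective fun x : K => x ^ q := fun a b h => φ.injective (by rw [hφ, hφ]; exact h)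
  have hit : ∀ i : ℕ, Function.Injective fun x : K => x ^ q ^ i := by
    intro i
    induction i with
    | zero => intro a b h; simpa using h
    | succ i ih => intro a b h; exact ih (hinj (by simpa [← pow_mul, ← pow_succ] using h))
  have hne0 : ∀ x ∈ R, x ≠ 0 := fun x hx e => h0 (e ▸ hx)
  have hcF : ∀ x : K, R.count (x ^ q) = R.count x := fun x => by
    conv_lhs => rw [← hF]
    exact Multiset.count_map_eq_count' _ R hinj x
  have hcI : ∀ x : K, R.count x⁻¹ = R.count x := fun x => by
    conv_lhs => rw [← hI]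
    exact Multiset.count_map_eq_count' _ R inv_injective x
  have hcFi : ∀ (i : ℕ) (x : K), R.count (x ^ q ^ i) = R.count x := by
    intro i
    induction i with
    | zero => intro x; simp
    | succ i ih => intro x; rw [pow_succ, pow_mul, hcF, ih]
  have horbR : ∀ d x, ∀ y ∈ orb q d x, R.count y = R.count x := by
    intro d x y hy
    rcases Finset.mem_union.1 hy with h | h <;> obtain ⟨i, -, rfl⟩ := Finset.mem_image.1 h
    · exact hcFi i x
    · rw [hcI, hcFi]
  have hsum : ∀ s : Finset K, (∑ y ∈ s, R.count y) ≤ 9 := fun s => by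
    calc (∑ y ∈ s, R.count y) ≤ ∑ y ∈ s ∪ R.toFinset, R.count y :=
          Finset.sum_le_sum_of_subset Finset.subset_union_left
      _ = 9 := by
          rw [← hcard]
          exact Multiset.sum_count_eq_card fun a ha => Finset.mem_union_right _ (Multiset.mem_toFinset.2 ha)
  have hpm : ∀ x : K, x * x = 1 → x = 1 ∨ x = -1 := fun x hx => mul_self_eq_one_iff.1 hx
  -- every other eigenvalue has a class
  have hex : ∀ x ∈ R, x * x ≠ 1 → ∃ k, InCls q k x := by
    intro x hx hx1
    have hc : 1 ≤ R.count x := Multiset.count_pos.2 hx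
    have hP : ∃ d, 0 < d ∧ (x ^ q ^ d = x ∨ x ^ q ^ d = x⁻¹) ∧ d ≤ 4 := by
      by_contra hcon
      push Not at hcon
      have h5 := (orb_facts hit (d := 5) hx1 (hne0 x hx) fun i hi hi5 =>
        ⟨fun e => absurd (hcon i hi (Or.inl e)) (by omega), fun e => absurd (hcon i hi (Or.inr e)) (by omega)⟩).1
      have := hsum (orb q 5 x)
      rw [Finset.sum_congr rfl (horbR 5 x), Finset.sum_const, h5, smul_eq_mul] at this
      omega
    obtain ⟨hd0, hd, hd4⟩ := Nat.find_spec hP
    set d := Nat.find hP with hddef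
    have hmin : ∀ i, 0 < i → i < d → x ^ q ^ i ≠ x ∧ x ^ q ^ i ≠ x⁻¹ := fun i hi hid =>
      ⟨fun e => Nat.find_min hP hid ⟨hi, Or.inl e, by omega⟩,
        fun e => Nat.find_min hP hid ⟨hi, Or.inr e, by omega⟩⟩
    have key : ∀ k, dKey k = d → x ^ q ^ d = (if sKey k then x⁻¹ else x) → InCls q k x := fun k hk he =>
      ⟨hx1, by rw [hk]; exact he, by rw [hk]; exact hmin⟩
    rcases hd with he | he
    · interval_cases d
      · exact ⟨6, key 6 rfl (by simpa [SpectrumEight.sKey] using he)⟩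
      · exact ⟨4, key 4 rfl (by simpa [SpectrumEight.sKey] using he)⟩
      · exact ⟨2, key 2 rfl (by simpa [SpectrumEight.sKey] using he)⟩
      · exact ⟨0, key 0 rfl (by simpa [SpectrumEight.sKey] using he)⟩
    · interval_cases d
      · exact ⟨7, key 7 rfl (by simpa [SpectrumEight.sKey] using he)⟩
      · exact ⟨5, key 5 rfl (by simpa [SpectrumEight.sKey] using he)⟩
      · exact ⟨3, key 3 rfl (by simpa [SpectrumEight.sKey] using he)⟩
      · exact ⟨1, key 1 rfl (by simpa [SpectrumEight.sKey] using he)⟩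
  classical
  let C : Fin 8 → Finset K := fun k => R.toFinset.filter fun x => InCls q k x
  let N : Fin 8 → ℕ := fun k => ∑ y ∈ C k, R.count y
  have hmemC : ∀ {k x}, x ∈ C k → x ∈ R ∧ InCls q k x := fun h =>
    ⟨Multiset.mem_toFinset.1 (Finset.mem_filter.1 h).1, (Finset.mem_filter.1 h).2⟩
  have hsub : ∀ k, ∀ x ∈ C k, orb q (dKey k) x ⊆ C k := by
    intro k x hx y hy
    obtain ⟨hxR, hk⟩ := hmemC hx
    have hyR : y ∈ R.toFinset := by
      rw [Multiset.mem_toFinset, ← Multiset.count_pos, horbR _ x y hy]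
      exact Multiset.count_pos.2 hxR
    refine Finset.mem_filter.2 ⟨hyR, ?_⟩
    have hpow : ∀ i : ℕ, InCls q k (x ^ q ^ i) := by
      intro i
      have hc : ∀ j : ℕ, (x ^ q ^ i) ^ q ^ j = (x ^ q ^ j) ^ q ^ i := fun j => by
        rw [← pow_mul, ← pow_mul, mul_comm]
      refine ⟨fun e => hk.1 (hit i ?_), ?_, fun j hj hjd => ⟨fun e => ?_, fun e => ?_⟩⟩
      · show (x * x) ^ q ^ i = 1 ^ q ^ i
        rw [mul_pow, one_pow, e]
      · rw [hc, hk.2.1]
        split_ifs <;> simp [inv_pow]
      · rw [hc] at e; exact (hk.2.2 j hj hjd).1 (hit i e)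
      · rw [hc, ← inv_pow] at e; exact (hk.2.2 j hj hjd).2 (hit i e)
    rcases Finset.mem_union.1 hy with h | h <;> obtain ⟨i, -, rfl⟩ := Finset.mem_image.1 h
    · exact hpow i
    · obtain ⟨a, b, c⟩ := hpow i
      refine ⟨fun e => a ?_, ?_, fun j hj hjd => ?_⟩
      · rw [← inv_inj, mul_inv, inv_one, e]
      · rw [inv_pow, b]; split_ifs <;> simp
      · rw [inv_pow]
        exact ⟨fun e => (c j hj hjd).1 (inv_injective e), fun e => (c j hj hjd).2 (inv_injective e)⟩
  have hbig : ∀ k, ∀ x ∈ C k, 2 * dKey k * R.count x ≤ N k := by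
    intro k x hx
    obtain ⟨hxR, hk⟩ := hmemC hx
    have h2 := Finset.sum_le_sum_of_subset (f := fun y => R.count y) (hsub k x hx)
    rw [Finset.sum_congr rfl (horbR (dKey k) x), Finset.sum_const, smul_eq_mul,
      (orb_facts hit hk.1 (hne0 x hxR) hk.2.2).1] at h2
    exact h2
  -- the eigenvalue `-1`
  have hone : (1 : K) ≠ -1 := fun h => h2 (by linear_combination h)
  have heven : Even (R.count (-1)) := by
    have hmain : (-1 : K) ^ R.count (-1) = 1 := by
      refine Eq.trans ?_ hprod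
      rw [Finset.prod_multiset_count,
        ← Finset.prod_filter_mul_prod_filter_not R.toFinset (fun x : K => x * x = 1)]
      have h3 : ∏ x ∈ R.toFinset.filter (fun x : K => ¬ x * x = 1), x ^ R.count x = 1 := by
        refine Finset.prod_involution (fun a _ => a⁻¹) (fun a ha => ?_) (fun a ha _ => ?_) (fun a ha => ?_)
          (fun a ha => inv_inv a)
        · rw [hcI, ← mul_pow, mul_inv_cancel₀ (hne0 a (Multiset.mem_toFinset.1 (Finset.mem_filter.1 ha).1)),
            one_pow]
        · intro e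
          refine (Finset.mem_filter.1 ha).2 ?_
          nth_rw 1 [← e]
          exact inv_mul_cancel₀ (hne0 a (Multiset.mem_toFinset.1 (Finset.mem_filter.1 ha).1))
        · obtain ⟨h, h'⟩ := Finset.mem_filter.1 ha
          refine Finset.mem_filter.2 ⟨?_, fun e => h' ?_⟩
          · rw [Multiset.mem_toFinset, ← Multiset.count_pos, hcI]
            exact Multiset.count_pos.2 (Multiset.mem_toFinset.1 h)
          · rw [← inv_inj, mul_inv, inv_one, e]
      rw [h3, mul_one]
      refine (Finset.prod_eq_single (f := fun x : K => x ^ R.count x) (-1 : K) ?_ ?_).symm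
      · intro b hb hb'
        show b ^ R.count b = 1
        rw [((hpm b (Finset.mem_filter.1 hb).2).resolve_right hb'), one_pow]
      · intro h
        show (-1 : K) ^ R.count (-1) = 1
        rw [Multiset.count_eq_zero.2 fun hm => h (Finset.mem_filter.2
          ⟨Multiset.mem_toFinset.2 hm, by ring⟩), pow_zero]
    exact (neg_one_pow_eq_one_iff_even (R := K) hone.symm).1 hmain
  obtain ⟨m, hm⟩ := heven
  have htot : (∑ k, N k) + R.count 1 + R.count (-1) ≤ 9 := by
    have hd : ((Finset.univ : Finset (Fin 8)) : Set (Fin 8)).PairwiseDisjoint C := by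
      intro k _ k' _ hkk
      rw [Function.onFun, Finset.disjoint_left]
      intro x hx hx'
      exact hkk ((hmemC hx).2.unique (hne0 x (hmemC hx).1) (hmemC hx').2)
    rw [show (∑ k, N k) = ∑ y ∈ Finset.univ.biUnion C, R.count y from (Finset.sum_biUnion hd).symm]
    have h1 : (1 : K) ∉ Finset.univ.biUnion C := by
      intro h
      obtain ⟨k, -, hk⟩ := Finset.mem_biUnion.1 h
      exact (hmemC hk).2.ne_one rfl
    have h1' : (-1 : K) ∉ insert 1 (Finset.univ.biUnion C) := by
      intro h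
      rcases Finset.mem_insert.1 h with h | h
      · exact hone h.symm
      · obtain ⟨k, -, hk⟩ := Finset.mem_biUnion.1 h
        exact (hmemC hk).2.ne_neg rfl
    calc _ = ∑ y ∈ insert (-1) (insert 1 (Finset.univ.biUnion C)), R.count y := by
          rw [Finset.sum_insert h1', Finset.sum_insert h1]; ring
      _ ≤ 9 := hsum _
  let n : Fin 8 → ℕ := fun k => N k / (2 * dKey k)
  have hn : ∀ k, 2 * (dKey k * n k) ≤ N k := fun k => by
    rw [← mul_assoc]; exact Nat.mul_div_le _ _
  have hsumn : 2 * ∑ k, dKey k * n k ≤ ∑ k, N k := by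
    rw [Finset.mul_sum]; exact Finset.sum_le_sum fun k _ => hn k
  obtain ⟨j, hj1, hj2, hj3, hj4, hj5⟩ := cover (decide (q % 4 = 1)) m n (by omega)
  have hP := pBound_ge hp hpo (cRow j)
  refine ⟨j, fun x hx => ?_⟩
  rcases eq_or_ne x (-1) with rfl | hxm
  · have hm0 : m ≠ 0 := fun h => by
      have := Multiset.count_pos.2 hx
      omega
    rw [if_pos rfl]
    exact ⟨(even_LRow hq j (hj2 hm0)).neg_one_pow, by omega⟩
  rw [if_neg hxm, add_zero]
  rcases eq_or_ne x 1 with rfl | hx1
  · exact ⟨one_pow _, by omega⟩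
  obtain ⟨k, hk⟩ := hex x hx fun e => (hpm x e).elim hx1 hxm
  have hxC : x ∈ C k := Finset.mem_filter.2 ⟨Multiset.mem_toFinset.2 hx, hk⟩
  have hle : R.count x ≤ n k := by
    rw [Nat.le_div_iff_mul_le (Nat.mul_pos two_pos (dKey_pos k))]
    rw [mul_comm]; exact hbig k x hxC
  have hc : 1 ≤ R.count x := Multiset.count_pos.2 hx
  refine ⟨?_, (hle.trans (hj4 k)).trans hP⟩
  rcases hj1 k (by omega) with hallow | ⟨hhalf, hm0, hn1⟩
  · obtain ⟨t, ht⟩ := kExp_dvd hq j k hallow
    rw [ht, pow_mul, hk.pow_eq_one hq0 (hne0 x hx), one_pow]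
  -- the lone class
  rw [kExp_half j k hhalf]
  have hnk : n k = 1 := by
    have := Finset.single_le_sum (f := n) (fun i _ => Nat.zero_le _) (Finset.mem_univ k)
    omega
  have hnk' : ∀ k', k' ≠ k → n k' = 0 := by
    intro k' hk'
    have := Finset.add_le_sum (f := n) (fun i _ => Nat.zero_le _) (Finset.mem_univ k') (Finset.mem_univ k) hk'
    omega
  have hNlt : N k < 2 * (2 * dKey k) := by
    have h' : N k / (2 * dKey k) = 1 := hnk
    have := Nat.lt_mul_div_succ (N k) (Nat.mul_pos two_pos (dKey_pos k))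
    rw [h'] at this
    omega
  set O := orb q (dKey k) x with hO
  obtain ⟨hOc, hOd, hOi⟩ := orb_facts hit hk.1 (hne0 x hx) hk.2.2
  have hall : ∀ y ∈ R, y = 1 ∨ y ∈ O := by
    intro y hy
    rcases eq_or_ne y 1 with rfl | hy1
    · exact Or.inl rfl
    right
    have hym : y ≠ -1 := by
      rintro rfl
      have := Multiset.count_pos.2 hy
      omega
    obtain ⟨k', hk'⟩ := hex y hy fun e => (hpm y e).elim hy1 hym
    have hyC : y ∈ C k' := Finset.mem_filter.2 ⟨Multiset.mem_toFinset.2 hy, hk'⟩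
    have hkk : k' = k := by
      by_contra hne
      have h1 : R.count y ≤ n k' := by
        rw [Nat.le_div_iff_mul_le (Nat.mul_pos two_pos (dKey_pos k'))]
        rw [mul_comm]; exact hbig k' y hyC
      rw [hnk' k' hne] at h1
      have := Multiset.count_pos.2 hy
      omega
    rw [hkk] at hk' hyC
    by_contra hyO
    -- the orbit of `x` is closed
    have hclosedI : ∀ z ∈ O, z⁻¹ ∈ O := by
      intro z hz
      rcases Finset.mem_union.1 hz with h | h <;> obtain ⟨i, hi, rfl⟩ := Finset.mem_image.1 h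
      · exact Finset.mem_union_right _ (Finset.mem_image.2 ⟨i, hi, rfl⟩)
      · rw [inv_inv]; exact Finset.mem_union_left _ (Finset.mem_image.2 ⟨i, hi, rfl⟩)
    have hclosedF : ∀ z ∈ O, z ^ q ∈ O := by
      have h1 : ∀ i, i < dKey k → (x ^ q ^ i) ^ q ∈ O := by
        intro i hi
        rw [← pow_mul, ← pow_succ]
        rcases Nat.lt_or_ge (i + 1) (dKey k) with h | h
        · exact Finset.mem_union_left _ (Finset.mem_image.2 ⟨i + 1, Finset.mem_range.2 h, rfl⟩)
        · rw [show i + 1 = dKey k by omega, hk.2.1]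
          have hx' : x ∈ O := Finset.mem_union_left _ (Finset.mem_image.2 ⟨0, Finset.mem_range.2 (dKey_pos k), by simp⟩)
          split_ifs
          · exact hclosedI x hx'
          · exact hx'
      intro z hz
      rcases Finset.mem_union.1 hz with h | h <;> obtain ⟨i, hi, rfl⟩ := Finset.mem_image.1 h
      · exact h1 i (Finset.mem_range.1 hi)
      · rw [inv_pow]; exact hclosedI _ (h1 i (Finset.mem_range.1 hi))
    have hclosed : ∀ (i : ℕ), ∀ z ∈ O, z ^ q ^ i ∈ O := by
      intro i
      induction i with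
      | zero => intro z hz; simpa using hz
      | succ i ih => intro z hz; rw [pow_succ, pow_mul]; exact hclosedF _ (ih z hz)
    have hper : y ^ q ^ (2 * dKey k) = y := by
      rw [two_mul, pow_add, pow_mul, hk'.2.1]
      split_ifs with hs
      · rw [inv_pow, hk'.2.1, if_pos hs, inv_inv]
      · rw [hk'.2.1, if_neg hs]
    have hdisj : Disjoint O (orb q (dKey k) y) := by
      rw [Finset.disjoint_left]
      intro z hz hz'
      refine hyO ?_
      obtain ⟨i, hi, hyi⟩ : ∃ i, i < dKey k ∧ y ^ q ^ i ∈ O := by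
        rcases Finset.mem_union.1 hz' with h | h <;> obtain ⟨i, hi, rfl⟩ := Finset.mem_image.1 h
        · exact ⟨i, Finset.mem_range.1 hi, hz⟩
        · exact ⟨i, Finset.mem_range.1 hi, by simpa using hclosedI _ hz⟩
      have := hclosed (2 * dKey k - i) _ hyi
      rwa [← pow_mul, ← pow_add, show i + (2 * dKey k - i) = 2 * dKey k by omega, hper] at this
    have hs := Finset.sum_le_sum_of_subset (f := fun z => R.count z)
      (Finset.union_subset (hsub k x hxC) (hsub k y hyC))
    rw [Finset.sum_union hdisj, Finset.sum_congr rfl (horbR (dKey k) x), Finset.sum_congr rfl (horbR (dKey k) y),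
      Finset.sum_const, Finset.sum_const, hOc, (orb_facts hit hk'.1 (hne0 y hy) hk'.2.2).1, smul_eq_mul,
      smul_eq_mul] at hs
    have hs : 2 * dKey k * R.count x + 2 * dKey k * R.count y ≤ N k := hs
    have h1 := Nat.mul_le_mul_left (2 * dKey k) hc
    have h1' := Nat.mul_le_mul_left (2 * dKey k) (Multiset.count_pos.2 hy : 1 ≤ R.count y)
    omega
  have hcx : R.count x = 1 := le_antisymm (hnk ▸ hle) hc
  have hO1 : (1 : K) ∉ O := fun h => ((hmemC (hsub k x hxC h)).2).ne_one rfl
  have hR : R = O.val + Multiset.replicate (R.count 1) 1 := by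
    refine Multiset.ext.2 fun y => ?_
    rw [Multiset.count_add, Multiset.count_replicate]
    by_cases hyO : y ∈ O
    · rw [Multiset.count_eq_one_of_mem O.nodup hyO, if_neg (fun e : (1 : K) = y => hO1 (e ▸ hyO)), add_zero,
        horbR _ x y hyO, hcx]
    · rw [Multiset.count_eq_zero.2 (show y ∉ O.val from hyO), zero_add]
      split_ifs with h
      · rw [h]
      · refine Multiset.count_eq_zero.2 fun hy => ?_
        exact (hall y hy).elim (fun e => h e.symm) hyO
  have hc1 : R.count 1 + 2 * dKey k = 9 := by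
    have h' := congrArg Multiset.card hR
    rw [Multiset.card_add, Multiset.card_replicate, hcard] at h'
    have : Multiset.card O.val = 2 * dKey k := hOc
    omega
  obtain ⟨s, hs, hs0, hprod'⟩ := hspin fun h => by
    have := Multiset.count_pos.2 h
    omega
  have h2q : (2 : K) ^ q = 2 := by rw [← hφ, map_ofNat]
  have hOprod : (O.val.map (1 + ·)).prod = 2 ^ (2 * dKey k) * (s * s) := by
    rw [hR, Multiset.map_add, Multiset.prod_add, Multiset.map_replicate, Multiset.prod_replicate,
      one_add_one_eq_two] at hprod'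
    refine mul_right_cancel₀ (pow_ne_zero (R.count 1) h2) ?_
    rw [hprod', mul_right_comm, ← pow_add, show 2 * dKey k + R.count 1 = 9 by omega]
  refine half_order hq φ hφ hk (hne0 x hx) (t := 2 ^ dKey k * s) ?_ (mul_ne_zero (pow_ne_zero _ h2) hs0) ?_
  · rw [mul_pow, ← pow_mul, mul_comm (dKey k) q, pow_mul, h2q, hs]
  · have hinj2 : Set.InjOn (fun i => (x ^ q ^ i)⁻¹) (Finset.range (dKey k) : Set ℕ) := fun i hi j hj e =>
      hOi hi hj (inv_injective e)
    have h' : (∏ z ∈ O, (1 + z)) = 2 ^ (2 * dKey k) * (s * s) := hOprod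
    rw [hO, orb, Finset.prod_union hOd, Finset.prod_image hOi, Finset.prod_image hinj2] at h'
    rw [h']
    ring

end Cfsg.Agent.Lib.SpectrumNine
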