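import Mathlib
import Cfsg.Agent.Lib.POmegaSemi.Torus
import Cfsg.Agent.Lib.SpectrumNine.Rows

/-!
For every element of `Ω` in dimension `8` or `9`, an annihilating polynomial dividing `X ^ M - 1` for one of
the fourteen `M`.
-/

set_option autoImplicit false
set_option linter.unusedSectionVars false

namespace Cfsg.Agent.Lib.SpectrumNine

open Polynomial Matrix

universe u

/-- An isometry has no single Jordan block of even size at `-1`. -/
theorem neg_block_kill {F : Type u} [Field F] (h2 : (2 : F) ≠ 0) {V : Type*} [AddCommGroup V] [Module F V]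
    [FiniteDimensional F V] (E : Module.End F V) (B : LinearMap.BilinForm F V)
    (hs : ∀ x y, B x y = B y x) (hnd : ∀ x, (∀ y, B x y = 0) → x = 0) (hE : ∀ x y, B (E x) (E y) = B x y)
    {k : ℕ} (hk : Odd k) {T : F[X]} (hchar : E.charpoly = (X + 1) ^ (k + 1) * T) (hT : ¬ (X + 1) ∣ T) :
    aeval E ((X + 1) ^ k * T) = 0 := by
  set N : Module.End F V := E + 1 with hN
  have haN : aeval E (X + 1 : F[X]) = N := by simp [hN]
  have hNk : ∀ i : ℕ, aeval E ((X + 1 : F[X]) ^ i) = N ^ i := fun i => by rw [map_pow, haN]
  have hcomm : Commute E N := (Commute.refl E).add_right (Commute.one_right E)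
  have h1 : ∀ x y, B (N x) y = B (E x) (N y) := fun x y => by
    simp only [hN, LinearMap.add_apply, Module.End.one_apply, map_add, hE]
    ring
  have hi : ∀ (i : ℕ) x y, B ((N ^ i) x) y = B ((E ^ i) x) ((N ^ i) y) := by
    intro i
    induction i with
    | zero => intro x y; simp
    | succ i ih =>
      intro x y
      calc B ((N ^ (i + 1)) x) y = B ((N ^ i) (N x)) y := by rw [pow_succ, Module.End.mul_apply]
        _ = B ((E ^ i) (N x)) ((N ^ i) y) := ih _ _
        _ = B (N ((E ^ i) x)) ((N ^ i) y) := by
          rw [← Module.End.mul_apply, (hcomm.pow_left i).eq, Module.End.mul_apply]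
        _ = B (E ((E ^ i) x)) (N ((N ^ i) y)) := h1 _ _
        _ = B ((E ^ (i + 1)) x) ((N ^ (i + 1)) y) := by
          rw [pow_succ', pow_succ', Module.End.mul_apply, Module.End.mul_apply]
  set U := LinearMap.range (aeval E T) with hU
  have hkillU : ∀ u ∈ U, (N ^ (k + 1)) u = 0 := by
    rintro _ ⟨z, rfl⟩
    rw [← hNk, ← Module.End.mul_apply, ← map_mul, ← hchar, LinearMap.aeval_self_charpoly, LinearMap.zero_apply]
  refine LinearMap.ext fun x => ?_
  rw [map_mul, hNk, Module.End.mul_apply, LinearMap.zero_apply]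
  by_contra hw
  set v := aeval E T x with hv
  have hvU : v ∈ U := ⟨x, rfl⟩
  set w := (N ^ k) v with hwdef
  have hNw : N w = 0 := by rw [hwdef, ← Module.End.mul_apply, ← pow_succ']; exact hkillU v hvU
  have hEw : E w = -w := by
    have : E w + w = 0 := by simpa [hN] using hNw
    exact eq_neg_of_add_eq_zero_left this
  have hwN : ∀ y, B w (N y) = 0 := fun y => by
    have h := h1 w y
    rw [hNw, hEw, map_zero, LinearMap.zero_apply, map_neg, LinearMap.neg_apply] at h
    exact neg_eq_zero.1 h.symm
  -- `φ(u, u) = 0`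
  have hvv : B w v = 0 := by
    have h := hi k v v
    rw [← hwdef] at h
    have he : ∀ (i : ℕ) z, B ((E ^ i) z) w = (-1) ^ i * B z w := by
      intro i
      induction i with
      | zero => intro z; simp
      | succ i ih =>
        intro z
        rw [pow_succ', Module.End.mul_apply]
        have h' := hE ((E ^ i) z) w
        rw [hEw, map_neg, ih] at h'
        rw [pow_succ]
        linear_combination (-1 : F) * h'
    rw [he, hk.neg_one_pow, hs v w] at h
    exact (mul_eq_zero.1 (by linear_combination h : (2 : F) * B w v = 0)).resolve_left h2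
  -- `U` is spanned by the chain of `v`
  let c : Fin (k + 1) → V := fun i => (N ^ (i : ℕ)) v
  have hli : LinearIndependent F c := by
    rw [Fintype.linearIndependent_iff]
    intro g hg i
    induction i using Fin.induction with
    | zero =>
      have := congrArg (N ^ k) hg
      rw [map_sum, map_zero, Finset.sum_eq_single 0] at this
      · rw [map_smul] at this
        exact (smul_eq_zero.1 this).resolve_right (by simpa [c] using hw)
      · intro b _ hb
        rw [map_smul, show (N ^ k) (c b) = 0 from ?_, smul_zero]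
        have hb' : 1 ≤ (b : ℕ) := Nat.one_le_iff_ne_zero.2 fun e => hb (Fin.ext e)
        show (N ^ k) ((N ^ (b : ℕ)) v) = 0
        rw [← Module.End.mul_apply, ← pow_add, show k + (b : ℕ) = ((b : ℕ) - 1) + (k + 1) by omega, pow_add,
          Module.End.mul_apply, hkillU v hvU, map_zero]
      · intro h; exact absurd (Finset.mem_univ _) h
    | succ i _ =>
      -- strong induction on the index
      suffices ∀ j : ℕ, ∀ hj : j < k + 1, g ⟨j, hj⟩ = 0 from this _ i.succ.isLt
      intro j
      induction j using Nat.strong_induction_on with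
      | h j ih =>
        intro hj
        have := congrArg (N ^ (k - j)) hg
        rw [map_sum, map_zero, Finset.sum_eq_single ⟨j, hj⟩] at this
        · rw [map_smul] at this
          refine (smul_eq_zero.1 this).resolve_right ?_
          show (N ^ (k - j)) ((N ^ j) v) ≠ 0
          rw [← Module.End.mul_apply, ← pow_add, show k - j + j = k by omega]
          exact hw
        · intro b _ hb
          rcases lt_or_gt_of_ne (fun e : (b : ℕ) = j => hb (Fin.ext e)) with h | h
          · rw [show g b = 0 from ih b h b.isLt, zero_smul, map_zero]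
          · rw [map_smul]
            show g b • (N ^ (k - j)) ((N ^ (b : ℕ)) v) = 0
            rw [← Module.End.mul_apply, ← pow_add,
              show k - j + (b : ℕ) = ((b : ℕ) - j - 1) + (k + 1) by omega, pow_add,
              Module.End.mul_apply, hkillU v hvU, map_zero, smul_zero]
        · intro h; exact absurd (Finset.mem_univ _) h
  have hcU : ∀ i, c i ∈ U := fun i => by
    refine ⟨(N ^ (i : ℕ)) x, ?_⟩
    show aeval E T ((N ^ (i : ℕ)) x) = (N ^ (i : ℕ)) (aeval E T x)
    rw [← Module.End.mul_apply, ← Module.End.mul_apply, ← hNk, ← map_mul, ← map_mul, mul_comm]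
  have hdim : Module.finrank F U ≤ k + 1 := by
    calc Module.finrank F U ≤ Module.finrank F (Module.End.maxGenEigenspace E (-1 : F)) := by
          refine Submodule.finrank_mono fun u hu => ?_
          rw [Module.End.mem_maxGenEigenspace]
          refine ⟨k + 1, ?_⟩
          rw [show E - (-1 : F) • (1 : Module.End F V) = N by rw [hN, neg_one_smul, sub_neg_eq_add]]
          exact hkillU u hu
      _ ≤ k + 1 := by
          rw [LinearMap.finrank_maxGenEigenspace_eq, hchar]
          have hX : (X + 1 : F[X]) = X - C (-1) := by simp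
          have hT0 : T ≠ 0 := fun h => hT (h ▸ dvd_zero _)
          rw [hX, rootMultiplicity_mul (mul_ne_zero (pow_ne_zero _ (X_sub_C_ne_zero _)) hT0),
            rootMultiplicity_X_sub_C_pow,
            rootMultiplicity_eq_zero (fun h => hT (by rw [hX]; exact dvd_iff_isRoot.2 h)), add_zero]
  have hspan : Submodule.span F (Set.range c) = U := by
    refine Submodule.eq_of_le_of_finrank_le (Submodule.span_le.2 (Set.range_subset_iff.2 hcU)) ?_
    rw [finrank_span_eq_card hli, Fintype.card_fin]
    exact hdim
  have hUw : ∀ u ∈ U, B w u = 0 := by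
    intro u hu
    rw [← hspan] at hu
    induction hu using Submodule.span_induction with
    | mem z hz =>
      obtain ⟨i, rfl⟩ := hz
      rcases Nat.eq_zero_or_pos (i : ℕ) with h | h
      · show B w ((N ^ (i : ℕ)) v) = 0
        rw [h, pow_zero, Module.End.one_apply]
        exact hvv
      · show B w ((N ^ (i : ℕ)) v) = 0
        rw [show (i : ℕ) = (i : ℕ) - 1 + 1 by omega, pow_succ', Module.End.mul_apply]
        exact hwN _
    | zero => exact map_zero _
    | add a b _ _ ha hb => rw [map_add, ha, hb, add_zero]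
    | smul t a _ ha => rw [map_smul, ha, smul_zero]
  have hcop : IsCoprime (X + 1 : F[X]) T := by
    have hX : (X + 1 : F[X]) = X - C (-1) := by simp
    rw [hX] at hT ⊢
    exact (irreducible_X_sub_C _).coprime_iff_not_dvd.2 hT
  obtain ⟨r, s, hrs⟩ := hcop
  refine hw (hnd w fun y => ?_)
  have hy : y = N (aeval E r y) + aeval E T (aeval E s y) := by
    have := congrArg (fun p => aeval E p y) hrs
    simp only [map_one, Module.End.one_apply] at this
    rw [map_add, mul_comm r, mul_comm s, map_mul, map_mul, haN, LinearMap.add_apply] at this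
    exact this.symm
  rw [hy, map_add, hwN, hUw _ ⟨_, rfl⟩, add_zero]

/-- The roots of a self-reciprocal polynomial are closed under inversion. -/
theorem roots_inv {K : Type*} [Field K] [IsAlgClosed K] [DecidableEq K] {f : K[X]} (hmon : f.Monic)
    (h0 : ¬ f.IsRoot 0) {c : K} (hc : c ≠ 0) (hrev : f = C c * f.reverse) : f.roots.map (·⁻¹) = f.roots := by
  have hg : ∀ S : Multiset K, (0 : K) ∉ S → ∃ c : K, c ≠ 0 ∧
      (S.map fun a => X - C a).prod.reverse = C c * ((S.map (·⁻¹)).map fun a => X - C a).prod := by
    intro S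
    induction S using Multiset.induction_on with
    | empty => intro _; exact ⟨1, one_ne_zero, by simp [reverse]⟩
    | cons a S ih =>
      intro ha
      rw [Multiset.mem_cons, not_or] at ha
      obtain ⟨c, hc, e⟩ := ih ha.2
      have ha0 : a ≠ 0 := Ne.symm ha.1
      refine ⟨-a * c, mul_ne_zero (neg_ne_zero.2 ha0) hc, ?_⟩
      simp only [Multiset.map_cons, Multiset.prod_cons, reverse_mul_of_domain, e]
      have hrev : (X - C a : K[X]).reverse = C (-a) * (X - C a⁻¹) := by
        have e1 : C (-a) * (X - C a⁻¹) = C (-a) * X + C 1 := by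
          rw [mul_sub, ← C_mul, neg_mul, mul_inv_cancel₀ ha0, C_neg (a := (1 : K)), sub_neg_eq_add]
        rw [e1]
        refine Polynomial.ext fun i => ?_
        rw [coeff_reverse, natDegree_X_sub_C, coeff_add, coeff_C_mul]
        rcases i with _ | _ | i
        · simp [revAt_le (Nat.zero_le 1)]
        · simp [revAt_le (le_refl 1), coeff_one]
        · rw [revAt_eq_self_of_lt (by omega : 1 < i + 1 + 1)]
          simp [coeff_X, coeff_one]
      rw [hrev, C_mul]
      ring
  have hsplit : f.Splits := IsAlgClosed.splits f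
  have hprod : f = (f.roots.map fun a => X - C a).prod := hsplit.eq_prod_roots_of_monic hmon
  obtain ⟨d, hd, e⟩ := hg f.roots fun h => h0 (isRoot_of_mem_roots h)
  rw [← hprod] at e
  have := congrArg Polynomial.roots hrev
  rw [e, ← mul_assoc, ← C_mul, roots_C_mul _ (mul_ne_zero hc hd), roots_multiset_prod_X_sub_C] at this
  exact this.symm

variable {F : Type u} [Field F] [Fintype F] {ι : Type} [Fintype ι] [DecidableEq ι]

theorem odd_card (h2 : (2 : F) ≠ 0) : Odd (Fintype.card F) :=
  Nat.odd_iff.2 (FiniteField.odd_card_of_char_ne_two (POmegaSemi.ringChar_ne_two_of h2))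

theorem prime_ringChar : (ringChar F).Prime := CharP.char_is_prime F _

theorem LRow_pos {q : ℕ} (hq : 3 ≤ q) (j : Fin 14) : 0 < LRow q j := by
  have h2 : 9 ≤ q ^ 2 := by
    calc 9 = 3 ^ 2 := rfl
      _ ≤ q ^ 2 := Nat.pow_le_pow_left hq 2
  have h3 : 27 ≤ q ^ 3 := by
    calc 27 = 3 ^ 3 := rfl
      _ ≤ q ^ 3 := Nat.pow_le_pow_left hq 3
  have h4 : 81 ≤ q ^ 4 := by
    calc 81 = 3 ^ 4 := rfl
      _ ≤ q ^ 4 := Nat.pow_le_pow_left hq 4
  fin_cases j <;> simp [LRow] <;> omega

theorem pBound_eq_pow (p c : ℕ) : ∃ e, pBound p c = p ^ e := by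
  unfold pBound
  split_ifs
  · exact ⟨0, (pow_zero p).symm⟩
  · exact ⟨_, rfl⟩

/-- The order bound. -/
noncomputable def mRow (F : Type u) [Field F] [Fintype F] (j : Fin 14) : ℕ :=
  pBound (ringChar F) (cRow j) * LRow (Fintype.card F) j

theorem exists_killer (h2 : (2 : F) ≠ 0) {Q : QuadraticForm F (ι → F)}
    (hQ : (QuadraticMap.polarBilin Q).Nondegenerate) (hn : Fintype.card ι = 8 ∨ Fintype.card ι = 9)
    (g : ↥(Cfsg.isometryGroup F ⇑Q)) (hg : g ∈ Cfsg.Omega F ⇑Q) :
    ∃ (j : Fin 14) (G : F[X]), aeval ((g : GL ι F) : Matrix ι ι F) G = 0 ∧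
      G * (X - 1) ^ (9 - Fintype.card ι) ∣ X ^ mRow F j - 1 := by
  classical
  set A := ((g : GL ι F) : Matrix ι ι F) with hA
  have hn2 : 2 ≤ Fintype.card ι := by omega
  obtain ⟨hd, hsp⟩ := (Orth.mem_omega_iff h2 hQ hn2 g).1 hg
  have hdet : A.det = 1 := by
    by_contra hne
    simp [Orth.detSign, ← hA, hne] at hd
  have hunit : IsUnit A := (Matrix.isUnit_iff_isUnit_det A).2 (by rw [hdet]; exact isUnit_one)
  -- self reciprocal
  have hrev : A.charpoly = C ((-1 : F) ^ Fintype.card ι) * A.charpoly.reverse := by
    set J := POmegaSemi.polarMat Q with hJ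
    have hJu : IsUnit J.det := Ne.isUnit (POmegaSemi.polarMat_det hQ)
    have hAJ : Aᵀ * J * A = J := POmegaSemi.matrix_eq_of_dot fun v w => by
      rw [← POmegaSemi.polar_mulVec, ← POmegaSemi.polar_eq_dot]
      exact Orth.polar_app g v w
    have hinv : A⁻¹ = J⁻¹ * Aᵀ * J := Matrix.inv_eq_left_inv (by
      rw [Matrix.mul_assoc, Matrix.mul_assoc, ← Matrix.mul_assoc Aᵀ, hAJ, Matrix.nonsing_inv_mul _ hJu])
    obtain ⟨u, hu⟩ := (Matrix.isUnit_iff_isUnit_det J).2 hJu
    have h' := Matrix.charpoly_units_conj' u Aᵀ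
    rw [hu, Matrix.charpoly_transpose, ← hinv] at h'
    conv_lhs => rw [← h', Matrix.charpoly_inv A hunit]
    rw [Matrix.reverse_charpoly, hdet, Ring.inverse_one, map_one, mul_one, map_pow, map_neg, map_one]
  let K := AlgebraicClosure F
  let ψ := algebraMap F K
  set f := A.charpoly.map ψ with hf
  have hmonA := Matrix.charpoly_monic A
  have hmon : f.Monic := hmonA.map _
  have hsplit : f.Splits := IsAlgClosed.splits f
  set S := f.roots with hS
  have hprodS : f = (S.map fun a => X - C a).prod := hsplit.eq_prod_roots_of_monic hmon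
  have hcardS : Multiset.card S = Fintype.card ι := by
    rw [hS, ← hsplit.natDegree_eq_card_roots, hf, Polynomial.natDegree_map, Matrix.charpoly_natDegree_eq_dim]
  set q := Fintype.card F with hqdef
  set p := ringChar F with hpdef
  haveI : Fact p.Prime := ⟨prime_ringChar⟩
  haveI : CharP K p := charP_of_injective_algebraMap ψ.injective p
  obtain ⟨e₀, -, he₀⟩ := FiniteField.card F p
  let φ : K →+* K := iterateFrobenius K p e₀
  have hφ : ∀ y, φ y = y ^ q := fun y => by rw [iterateFrobenius_def, hqdef, he₀]
  have hφψ : φ.comp ψ = ψ := RingHom.ext fun a => by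
    rw [RingHom.comp_apply, hφ, ← map_pow, hqdef, FiniteField.pow_card]
  have hS0 : (0 : K) ∉ S := fun h => by
    have h' := isRoot_of_mem_roots h
    rw [IsRoot, ← coeff_zero_eq_eval_zero, hf, coeff_map] at h'
    have := Matrix.det_eq_sign_charpoly_coeff A
    rw [hdet, ψ.injective (h'.trans (map_zero ψ).symm), mul_zero] at this
    exact one_ne_zero this
  have hfrev : f = C (ψ ((-1) ^ Fintype.card ι)) * f.reverse := by
    have hr : f.reverse = A.charpoly.reverse.map ψ := by
      rw [hf, reverse, reverse, natDegree_map, reflect_map]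
    rw [hr, hf, ← Polynomial.map_C, ← Polynomial.map_mul, ← hrev]
  have hSI : S.map (·⁻¹) = S := roots_inv hmon (fun h => hS0 ((mem_roots hmon.ne_zero).2 h))
    (by rw [map_pow]; exact pow_ne_zero _ (by simp)) hfrev
  have hSF : S.map (· ^ q) = S := by
    calc S.map (· ^ q) = S.map φ := Multiset.map_congr rfl fun x _ => (hφ x).symm
      _ = (f.map φ).roots := (hsplit.roots_map_of_injective φ.injective).symm
      _ = S := by rw [hS, hf, Polynomial.map_map, hφψ]
  have hSprod : S.prod = 1 := by
    have := Matrix.det_eq_prod_roots_charpoly (A.map ψ)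
    rw [Matrix.charpoly_map, ← hf, ← hS] at this
    rw [← this, ← RingHom.mapMatrix_apply, ← RingHom.map_det, hdet, map_one]
  set pad := 9 - Fintype.card ι with hpad
  set R := S + Multiset.replicate pad (1 : K) with hR
  have h2K : (2 : K) ≠ 0 := by
    rw [← map_ofNat ψ 2]; exact fun h => h2 (ψ.injective (h.trans (map_zero ψ).symm))
  have hcount1 : ∀ x : K, x ≠ 1 → R.count x = S.count x := fun x hx => by
    rw [hR, Multiset.count_add, Multiset.count_replicate, if_neg (Ne.symm hx), add_zero]
  have hm1 : (-1 : K) ≠ 1 := fun h => h2K (by linear_combination -h)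
  obtain ⟨j, hj⟩ := exists_row (p := p) prime_ringChar.two_le
    (prime_ringChar.odd_of_ne_two (POmegaSemi.ringChar_ne_two_of h2)) (odd_card h2) h2K φ hφ R
    (by rw [hR, Multiset.card_add, Multiset.card_replicate, hcardS]; omega)
    (by rw [hR, Multiset.mem_add]; rintro (h | h)
        · exact hS0 h
        · exact zero_ne_one (Multiset.eq_of_mem_replicate h))
    (by rw [hR, Multiset.map_add, hSF, Multiset.map_replicate, one_pow])
    (by rw [hR, Multiset.map_add, hSI, Multiset.map_replicate, inv_one])
    (by rw [hR, Multiset.prod_add, hSprod, Multiset.prod_replicate, one_pow, one_mul])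
    (fun hneg => by
      have hPi : (S.map (1 + ·)).prod = ψ ((1 + A).det) := by
        have h1 := congrArg (Polynomial.eval (-1 : K)) hprodS
        rw [eval_multiset_prod, Multiset.map_map, hf, ← map_one ψ, ← map_neg, eval_map_apply,
          Matrix.eval_charpoly, map_neg, map_one] at h1
        have h3 : (-1 - A) = -(1 + A) := by abel
        rw [h3, Matrix.det_neg, map_mul, map_pow, map_neg, map_one] at h1
        have h4 : (S.map ((fun q : K[X] => eval (-1 : K) q) ∘ fun a => X - C a)).prod =
            (-1) ^ Fintype.card ι * (S.map (1 + ·)).prod := by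
          rw [← hcardS, ← Multiset.prod_replicate, ← Multiset.map_const', ← Multiset.prod_map_mul]
          exact congrArg _ (Multiset.map_congr rfl fun a _ => by simp; ring)
        rw [h4] at h1
        exact mul_left_cancel₀ (pow_ne_zero _ (by simp)) h1.symm
      have hne : (1 + A).det ≠ 0 := fun h => by
        rw [h, map_zero, Multiset.prod_eq_zero_iff, Multiset.mem_map] at hPi
        obtain ⟨a, ha, ha'⟩ := hPi
        refine hneg ?_
        rw [hR, Multiset.mem_add, show (-1 : K) = a by linear_combination -ha']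
        exact Or.inl ha
      have hP : ((2 : F)⁻¹ • (A + 1)).det ≠ 0 := by
        rw [Matrix.det_smul, add_comm]
        exact mul_ne_zero (pow_ne_zero _ (inv_ne_zero h2)) hne
      rw [POmegaSemi.spinor_zassenhaus hQ h2 hn2 g hP] at hsp
      obtain ⟨u, hu⟩ := (POmegaSemi.sqsgn_one_iff _).1 hsp
      rw [Units.val_mk0] at hu
      refine ⟨ψ u, by rw [← map_pow, FiniteField.pow_card],
        fun h => hP (by rw [hu, ψ.injective (h.trans (map_zero ψ).symm), mul_zero]), ?_⟩
      rw [Matrix.det_smul, add_comm] at hu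
      rw [hR, Multiset.map_add, Multiset.prod_add, hPi, Multiset.map_replicate, Multiset.prod_replicate,
        one_add_one_eq_two, ← map_ofNat ψ 2, ← map_pow, ← map_mul, ← map_pow, ← map_mul, ← map_mul, ← hu,
        show 9 = Fintype.card ι + pad by omega, pow_add, inv_pow]
      congr 1
      field_simp
      rw [hA])
  set L := LRow q j with hL
  have hq3 : 3 ≤ q := by
    obtain ⟨r, hr⟩ := odd_card (F := F) h2
    have := Fintype.one_lt_card (α := F)
    omega
  obtain ⟨e, he⟩ := pBound_eq_pow p (cRow j)
  set P := pBound p (cRow j) with hPdef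
  have hdvd : ∀ (G : F[X]) (R' : Multiset K), (G * (X - 1) ^ pad).map ψ = (R'.map fun a => X - C a).prod →
      (∀ x, x ∈ R' → x ^ L = 1 ∧ R'.count x ≤ P) → G.Monic → G * (X - 1) ^ pad ∣ X ^ mRow F j - 1 := by
    intro G R' hG hR' hGm
    refine SpectrumEight.dvd_of_map_dvd ψ (hGm.mul ((monic_X_sub_C (1 : F)).pow pad |> fun h => by simpa using h)) _ ?_
    rw [hG]
    have hne : (X ^ L - 1 : K[X]) ≠ 0 := (monic_X_pow_sub_C 1 (LRow_pos hq3 j).ne').ne_zero
    have hpow : (X : K[X]) ^ mRow F j - 1 = (X ^ L - 1) ^ P := by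
      rw [mRow, ← hpdef, ← hqdef, ← hPdef, ← hL, he, sub_pow_char_pow, one_pow, ← pow_mul, mul_comm]
    rw [hpow, Multiset.prod_X_sub_C_dvd_iff_le_roots (pow_ne_zero _ hne), Polynomial.roots_pow, Multiset.le_iff_count]
    intro x
    by_cases hx : x ∈ R'
    · obtain ⟨hx1, hx2⟩ := hR' x hx
      have h1 : 1 ≤ (X ^ L - 1 : K[X]).roots.count x := by
        rw [Nat.one_le_iff_ne_zero, ← Nat.pos_iff_ne_zero, Multiset.count_pos, mem_roots hne]
        simpa [sub_eq_zero] using hx1
      rw [Multiset.count_nsmul]
      calc R'.count x ≤ P * 1 := by simpa using hx2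
        _ ≤ _ := Nat.mul_le_mul_left _ h1
    · rw [Multiset.count_eq_zero_of_notMem hx]; exact Nat.zero_le _
  have hfull : (A.charpoly * (X - 1) ^ pad).map ψ = (R.map fun a => X - C a).prod := by
    rw [Polynomial.map_mul, ← hf, hR, Multiset.map_add, Multiset.prod_add, ← hprodS, Multiset.map_replicate,
      Multiset.prod_replicate]
    simp
  rcases Nat.lt_or_ge P (R.count (-1)) with hbig | hsmall
  swap
  · refine ⟨j, A.charpoly, Matrix.aeval_self_charpoly A, hdvd _ R hfull (fun x hx => ?_) hmonA⟩
    obtain ⟨h1, h1'⟩ := hj x hx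
    refine ⟨h1, ?_⟩
    split_ifs at h1' with hx1
    · rw [hx1]; exact hsmall
    · simpa using h1'
  · have hcm : R.count (-1) = P + 1 := by
      have h := (hj (-1) (Multiset.count_pos.1 (by omega))).2
      rw [if_pos rfl] at h
      omega
    have hmult : A.charpoly.rootMultiplicity (-1) = P + 1 := by
      rw [eq_rootMultiplicity_map (f := ψ) ψ.injective, map_neg, map_one, ← hf, ← count_roots, ← hS,
        ← hcount1 _ hm1, hcm]
    obtain ⟨T, hT, hT1⟩ := A.charpoly.exists_eq_pow_rootMultiplicity_mul_and_not_dvd hmonA.ne_zero (-1)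
    rw [hmult, C_neg, C_1, sub_neg_eq_add] at hT
    rw [C_neg, C_1, sub_neg_eq_add] at hT1
    have hX1 : (X + 1 : F[X]).Monic := by simpa using monic_X_add_C (1 : F)
    have hTm : T.Monic := (hX1.pow (P + 1)).of_mul_monic_left (hT ▸ hmonA)
    refine ⟨j, (X + 1) ^ P * T, ?_, hdvd _ (R.erase (-1)) ?_ (fun x hx => ?_) ((hX1.pow P).mul hTm)⟩
    · have hk := neg_block_kill h2 (Matrix.toLin' A) (QuadraticMap.polarBilin Q)
        (fun x y => by simp only [QuadraticMap.polarBilin_apply_apply]; exact QuadraticMap.polar_comm _ _ _)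
        (fun x h => hQ.1 x h) (fun x y => by
          simp only [QuadraticMap.polarBilin_apply_apply, Matrix.toLin'_apply]; exact Orth.polar_app g x y)
        (odd_pBound (prime_ringChar.odd_of_ne_two (POmegaSemi.ringChar_ne_two_of h2)) _)
        (T := T) (by rw [Matrix.charpoly_toLin', hT]) hT1
      rw [show (Matrix.toLin' A) = Matrix.toLinAlgEquiv' A from rfl, aeval_algEquiv, AlgHom.comp_apply] at hk
      exact Matrix.toLinAlgEquiv'.injective (hk.trans (map_zero _).symm)
    · refine mul_left_cancel₀ (X_sub_C_ne_zero (-1 : K)) ?_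
      rw [← Multiset.prod_cons, ← Multiset.map_cons (fun a => X - C a), Multiset.cons_erase
        (Multiset.count_pos.1 (by omega)), ← hfull, hT, pow_succ']
      simp only [Polynomial.map_mul, Polynomial.map_pow, Polynomial.map_add, Polynomial.map_one, Polynomial.map_X,
        C_neg, C_1, sub_neg_eq_add]
      ring
    · obtain ⟨h1, h1'⟩ := hj x (Multiset.mem_of_mem_erase hx)
      refine ⟨h1, ?_⟩
      split_ifs at h1' with hx1
      · rw [hx1, Multiset.count_erase_self]; omega
      · rw [Multiset.count_erase_of_ne hx1]; simpa using h1'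

end Cfsg.Agent.Lib.SpectrumNine
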