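import Mathlib
import Cfsg.Agent.Lib.SpectrumNine.Killer

/-!
Element orders of `Ω` in dimension nine, and of `V ⋊ Ω` in dimension eight: the upper bound.
-/

set_option autoImplicit false
set_option linter.unusedSectionVars false

namespace Cfsg.Agent.Lib.SpectrumNine

open Polynomial Matrix

universe u

variable {F : Type u} [Field F] {ι : Type} [Fintype ι] [DecidableEq ι]

/-- The natural action of `Ω(Qf)` on the vectors. -/
noncomputable abbrev act (Qf : (ι → F) → F) : ↥(Cfsg.Omega F Qf) →* MulAut (Multiplicative (ι → F)) :=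
  (MulAutMultiplicative (ι → F)).symm.toMonoidHom.comp
    ((DistribMulAction.toAddAut (LinearMap.GeneralLinearGroup F (ι → F)) (ι → F)).comp
      (Matrix.GeneralLinearGroup.toLin.toMonoidHom.comp
        ((Cfsg.isometryGroup F Qf).subtype.comp (Cfsg.Omega F Qf).subtype)))

/-- `V ⋊ Ω`. -/
abbrev Aff (Qf : (ι → F) → F) : Type u := Multiplicative (ι → F) ⋊[act Qf] ↥(Cfsg.Omega F Qf)

/-- The matrix of an element. -/
abbrev mat {Qf : (ι → F) → F} (g : ↥(Cfsg.Omega F Qf)) : Matrix ι ι F := ((g.1 : GL ι F) : Matrix ι ι F)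

theorem act_apply {Qf : (ι → F) → F} (g : ↥(Cfsg.Omega F Qf)) (v : ι → F) :
    act Qf g (Multiplicative.ofAdd v) = Multiplicative.ofAdd (mat g *ᵥ v) := rfl

theorem aff_pow {Qf : (ι → F) → F} (v : ι → F) (g : ↥(Cfsg.Omega F Qf)) (n : ℕ) :
    ((⟨Multiplicative.ofAdd v, g⟩ : Aff Qf) ^ n).right = g ^ n ∧
      ((⟨Multiplicative.ofAdd v, g⟩ : Aff Qf) ^ n).left =
        Multiplicative.ofAdd ((∑ i ∈ Finset.range n, mat g ^ i) *ᵥ v) := by
  induction n with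
  | zero => exact ⟨rfl, by simp⟩
  | succ n ih =>
    obtain ⟨h1, h2⟩ := ih
    refine ⟨by rw [pow_succ, SemidirectProduct.mul_right, h1, pow_succ], ?_⟩
    rw [pow_succ, SemidirectProduct.mul_left, h1, h2, act_apply, Finset.sum_range_succ, add_mulVec, ofAdd_add]
    simp [mat]

theorem aff_pow_eq_one_iff {Qf : (ι → F) → F} (v : ι → F) (g : ↥(Cfsg.Omega F Qf)) (n : ℕ) :
    (⟨Multiplicative.ofAdd v, g⟩ : Aff Qf) ^ n = 1 ↔
      g ^ n = 1 ∧ (∑ i ∈ Finset.range n, mat g ^ i) *ᵥ v = 0 := by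
  obtain ⟨h1, h2⟩ := aff_pow v g n
  rw [SemidirectProduct.ext_iff, SemidirectProduct.one_left, SemidirectProduct.one_right, h1, h2]
  exact ⟨fun h => ⟨h.2, ofAdd_eq_one.1 h.1⟩, fun h => ⟨ofAdd_eq_one.2 h.2, h.1⟩⟩

variable [Fintype F]

theorem pow_mRow_eq_one (h2 : (2 : F) ≠ 0) {Q : QuadraticForm F (ι → F)}
    (hQ : (QuadraticMap.polarBilin Q).Nondegenerate) (hn : Fintype.card ι = 8 ∨ Fintype.card ι = 9)
    (g : ↥(Cfsg.Omega F ⇑Q)) :
    ∃ j : Fin 14, g ^ mRow F j = 1 ∧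
      (Fintype.card ι = 8 → ∑ i ∈ Finset.range (mRow F j), mat g ^ i = 0) := by
  obtain ⟨j, G, hG, hdvd⟩ := exists_killer h2 hQ hn g.1 g.2
  refine ⟨j, ?_, fun h8 => ?_⟩
  · obtain ⟨c, hc⟩ := dvd_trans (dvd_mul_right _ _) hdvd
    have h := congrArg (aeval (mat g)) hc
    rw [map_mul, hG, zero_mul, map_sub, map_pow, aeval_X, map_one, sub_eq_zero] at h
    exact Subtype.ext (Subtype.ext (Units.ext (by simpa [mat] using h)))
  · rw [h8, show 9 - 8 = 1 by rfl, pow_one, ← geom_sum_mul] at hdvd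
    obtain ⟨c, hc⟩ := (mul_dvd_mul_iff_right (by simpa using X_sub_C_ne_zero (1 : F))).1 hdvd
    have h := congrArg (aeval (mat g)) hc
    rw [map_mul, hG, zero_mul, map_sum] at h
    simpa using h

theorem aff_orderOf_dvd (h2 : (2 : F) ≠ 0) {Q : QuadraticForm F (ι → F)}
    (hQ : (QuadraticMap.polarBilin Q).Nondegenerate) (h8 : Fintype.card ι = 8) (z : Aff ⇑Q) :
    ∃ j : Fin 14, orderOf z ∣ mRow F j := by
  obtain ⟨v, g⟩ := z
  obtain ⟨v, rfl⟩ := Multiplicative.ofAdd.surjective v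
  obtain ⟨j, hj, hj'⟩ := pow_mRow_eq_one h2 hQ (Or.inl h8) g
  exact ⟨j, orderOf_dvd_of_pow_eq_one ((aff_pow_eq_one_iff v g _).2 ⟨hj, by rw [hj' h8, zero_mulVec]⟩)⟩

end Cfsg.Agent.Lib.SpectrumNine
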