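import Mathlib
import Cfsg.Agent.Lib.SpectrumEight.Torus

/-!
Generators of the tori of orders `q ^ d ± 1`, `q` odd: determinant one and non-square spinor value.
-/

set_option autoImplicit false
set_option linter.unusedSectionVars false

namespace Cfsg.Agent.Lib.SpectrumNine

open QuadraticMap
open SpectrumEight (conjHom conjHom_injective)

universe u

variable {F : Type u} [Field F]

/-- `det ((1 + e) / 2)`. -/
noncomputable def zc {W : Type*} [AddCommGroup W] [Module F W] (e : W ≃ₗ[F] W) : F :=
  LinearMap.det ((2 : F)⁻¹ • (e.toLinearMap + 1))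

theorem det_conjHom {V W : Type*} [AddCommGroup V] [Module F V] [AddCommGroup W] [Module F W] (φ : V ≃ₗ[F] W)
    (e : V ≃ₗ[F] V) : LinearMap.det (conjHom φ e).toLinearMap = LinearMap.det e.toLinearMap :=
  LinearMap.det_conj e.toLinearMap φ

theorem zc_conjHom {V W : Type*} [AddCommGroup V] [Module F V] [AddCommGroup W] [Module F W] (φ : V ≃ₗ[F] W)
    (e : V ≃ₗ[F] V) : zc (conjHom φ e) = zc e := by
  rw [zc, zc, ← LinearMap.det_conj ((2 : F)⁻¹ • (e.toLinearMap + 1)) φ]
  exact congrArg _ (LinearMap.ext fun w => by simp [conjHom])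

variable (F) in
/-- A generator of a torus of order `n` on a space of dimension `2 d` and sign `s`. -/
def Gen [Fintype F] (d : ℕ) (s : ℤ) (n : ℕ) : Prop :=
  ∃ (R : QuadraticForm F (Fin (2 * d) → F)) (e : (Fin (2 * d) → F) ≃ₗ[F] (Fin (2 * d) → F)),
    (polarBilin R).Nondegenerate ∧ OrthPrime.qsgn R = s ∧ (∀ v, R (e v) = R v) ∧ orderOf e = n ∧
      LinearMap.det e.toLinearMap = 1 ∧ (3 ≤ n → ¬ IsSquare (zc e)) ∧ ∀ v, (e ^ (n / 2)) v = -v

variable [Fintype F]

theorem Gen.mk' {W : Type*} [AddCommGroup W] [Module F W] [FiniteDimensional F W] (R : QuadraticForm F W)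
    (e : W ≃ₗ[F] W) {d : ℕ} {s : ℤ} {n : ℕ} (hR : (polarBilin R).Nondegenerate)
    (hd : Module.finrank F W = 2 * d) (hs : OrthPrime.qsgn R = s) (he : ∀ v, R (e v) = R v)
    (ho : orderOf e = n) (hdet : LinearMap.det e.toLinearMap = 1) (hz : 3 ≤ n → ¬ IsSquare (zc e))
    (hneg : ∀ v, (e ^ (n / 2)) v = -v) : Gen F d s n := by
  let φ : W ≃ₗ[F] (Fin (2 * d) → F) := (Module.finBasisOfFinrankEq F W hd).equivFun
  have h : ∀ v, R.comp φ.symm.toLinearMap (φ v) = R v := fun v => by simp
  refine ⟨R.comp φ.symm.toLinearMap, conjHom φ e, FormConj.nondegenerate_congr φ h hR,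
    by rw [OrthPrime.qsgn_congr φ h, hs], fun v => by simp [conjHom, he],
    by rw [orderOf_injective _ (conjHom_injective φ), ho], by rw [det_conjHom, hdet],
    fun hn => by rw [zc_conjHom]; exact hz hn, fun v => ?_⟩
  rw [← map_pow]
  show φ ((e ^ (n / 2)) (φ.symm v)) = -v
  rw [hneg, map_neg, φ.apply_symm_apply]

theorem half_pow_ne {G : Type*} [Group G] {a : G} {n : ℕ} (ha : orderOf a = n) (hn : 2 ≤ n) :
    a ^ (n / 2) ≠ 1 := fun h => by
  have := Nat.le_of_dvd (by omega) (orderOf_dvd_of_pow_eq_one h)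
  rw [ha] at this
  omega

theorem unit_half_eq_neg {K : Type*} [Field K] {a : Kˣ} {n : ℕ} (ha : orderOf a = n) (hn : Even n) (hn2 : 2 ≤ n) :
    ((a : K)) ^ (n / 2) = -1 := by
  have h : ((a : K) ^ (n / 2)) * ((a : K) ^ (n / 2)) = 1 := by
    rw [← pow_add, show n / 2 + n / 2 = n by obtain ⟨c, rfl⟩ := hn; omega, ← Units.val_pow_eq_pow_val, ← ha,
      pow_orderOf_eq_one, Units.val_one]
  refine (mul_self_eq_one_iff.1 h).resolve_left fun h1 => half_pow_ne ha hn2 (Units.ext ?_)
  rw [Units.val_pow_eq_pow_val, h1, Units.val_one]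

theorem geom_div {q d : ℕ} (hq : 2 ≤ q) (ho : Odd q) :
    (q ^ d - 1) / (q - 1) * ((q - 1) / 2) = (q ^ d - 1) / 2 := by
  obtain ⟨r, rfl⟩ := ho
  obtain ⟨c, hc⟩ : 2 * r ∣ (2 * r + 1) ^ d - 1 := by simpa using Nat.sub_dvd_pow_sub_pow (2 * r + 1) 1 d
  rw [hc, show 2 * r + 1 - 1 = 2 * r by omega, Nat.mul_div_cancel_left _ (by omega),
    Nat.mul_div_cancel_left _ (by norm_num), mul_assoc, Nat.mul_div_cancel_left _ (by norm_num), mul_comm]

theorem gen_plus (h2 : (2 : F) ≠ 0) {d : ℕ} (hd : 1 ≤ d) : Gen F d 1 (Fintype.card F ^ d - 1) := by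
  classical
  obtain ⟨p, hp⟩ := CharP.exists F
  haveI : Fact p.Prime := ⟨CharP.char_is_prime F p⟩
  haveI : NeZero d := ⟨by omega⟩
  let K := FiniteField.Extension F p d
  haveI : Finite K := Module.finite_of_finite F
  letI : Fintype K := Fintype.ofFinite K
  set q := Fintype.card F with hqdef
  have hK : Nat.card K = q ^ d := by
    rw [FiniteField.natCard_extension, Nat.card_eq_fintype_card]
  have hfin : Module.finrank F K = d := FiniteField.finrank_extension F p d
  have hqo : Odd q := by
    refine Nat.odd_iff.2 (FiniteField.odd_card_of_char_ne_two fun h => h2 ?_)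
    have := ringChar.Nat.cast_ringChar (R := F)
    rw [h] at this; exact_mod_cast this
  have hq2 : 2 ≤ q := Fintype.one_lt_card
  have hq3 : 3 ≤ q := by obtain ⟨r, hr⟩ := hqo; omega
  have hQ : 3 ≤ q ^ d := hq3.trans (Nat.le_self_pow (by omega) q)
  let W := K × K
  let B : LinearMap.BilinMap F W F := LinearMap.mk₂ F (fun x y : W => Algebra.trace F K (x.1 * y.2))
    (fun a b c => by rw [Prod.fst_add, add_mul, map_add])
    (fun c a b => by rw [Prod.smul_fst, smul_mul_assoc, map_smul])
    (fun a b c => by rw [Prod.snd_add, mul_add, map_add])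
    (fun c a b => by rw [Prod.smul_snd, mul_smul_comm, map_smul])
  let R : QuadraticForm F W := B.toQuadraticMap
  have hR : ∀ x : W, R x = Algebra.trace F K (x.1 * x.2) := fun x => rfl
  have hpol : ∀ x y : W, polar ⇑R x y = Algebra.trace F K (x.1 * y.2 + y.1 * x.2) := fun x y => by
    simp only [polar, hR]
    rw [← map_sub, ← map_sub]
    refine congrArg (Algebra.trace F K) ?_
    show (x.1 + y.1) * (x.2 + y.2) - x.1 * x.2 - y.1 * y.2 = _
    ring
  have hnd : (polarBilin R).Nondegenerate := StdForms.nondegenerate_of_left _ fun u hu => by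
    refine Prod.ext ((traceForm_nondegenerate F K).1 _ fun y => ?_) ((traceForm_nondegenerate F K).1 _ fun y => ?_)
    · have := hu (0, y)
      rw [hpol] at this
      show Algebra.trace F K (u.1 * y) = 0
      simpa using this
    · have := hu (y, 0)
      rw [hpol] at this
      show Algebra.trace F K (u.2 * y) = 0
      rw [mul_comm]
      simpa using this
  let h : Kˣ →* (W ≃ₗ[F] W) := MonoidHom.mk'
    (fun a =>
      { toFun := fun x => ((a : K) * x.1, ((a⁻¹ : Kˣ) : K) * x.2)
        invFun := fun x => (((a⁻¹ : Kˣ) : K) * x.1, (a : K) * x.2)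
        left_inv := fun x => Prod.ext (by simp [← mul_assoc]) (by simp [← mul_assoc])
        right_inv := fun x => Prod.ext (by simp [← mul_assoc]) (by simp [← mul_assoc])
        map_add' := fun x y => Prod.ext (mul_add _ _ _) (mul_add _ _ _)
        map_smul' := fun c x => Prod.ext (mul_smul_comm c _ _) (mul_smul_comm c _ _) })
    (fun a b => LinearEquiv.ext fun x => Prod.ext (by simp [mul_assoc]) (by simp [mul_assoc, mul_comm, mul_left_comm]))
  have hinj : Function.Injective h := fun a b e => Units.ext ((mul_one _).symm.trans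
    ((congrArg Prod.fst (LinearEquiv.congr_fun e ((1 : K), (0 : K)))).trans (mul_one _)))
  obtain ⟨α, hα⟩ := isCyclic_iff_exists_orderOf_eq_natCard.1 (inferInstance : IsCyclic Kˣ)
  rw [Nat.card_units, hK] at hα
  have hdet : ∀ a b : K, LinearMap.det ((Algebra.lmul F K a).prodMap (Algebra.lmul F K b)) =
      Algebra.norm F a * Algebra.norm F b := fun a b => LinearMap.det_prodMap _ _
  refine Gen.mk' R (h α) hnd (by rw [Module.finrank_prod, hfin, two_mul]) ?_
    (fun v => ?_) (by rw [orderOf_injective h hinj, hα]) ?_ (fun hn hsq => ?_) (fun v => ?_)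
  · rw [OrthPrime.qsgn_eq_one_iff]
    refine ⟨LinearMap.range (LinearMap.inl F K K), ?_, ?_⟩
    · rw [LinearMap.finrank_range_of_inj LinearMap.inl_injective, Module.finrank_prod]; omega
    · rintro _ ⟨a, rfl⟩
      show Algebra.trace F K (a * (0 : K)) = 0
      rw [mul_zero, map_zero]
  · rw [hR, hR]
    show Algebra.trace F K ((α : K) * v.1 * (((α⁻¹ : Kˣ) : K) * v.2)) = _
    rw [mul_mul_mul_comm, Units.mul_inv, one_mul]
  · rw [show (h α).toLinearMap = (Algebra.lmul F K (α : K)).prodMap (Algebra.lmul F K ((α⁻¹ : Kˣ) : K)) from rfl,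
      hdet, ← map_mul, Units.mul_inv, map_one]
  · -- the spinor value is a norm of a non-square
    set c := (2 : K)⁻¹ * ((α : K) + 1) with hc
    set c' := (2 : K)⁻¹ * (((α⁻¹ : Kˣ) : K) + 1) with hc'
    have hmap : (2 : F)⁻¹ • ((h α).toLinearMap + 1) = (Algebra.lmul F K c).prodMap (Algebra.lmul F K c') := by
      refine LinearMap.ext fun x => ?_
      show (2 : F)⁻¹ • (((α : K) * x.1 + x.1, ((α⁻¹ : Kˣ) : K) * x.2 + x.2) : K × K) = (c * x.1, c' * x.2)
      have h2' : algebraMap F K (2 : F)⁻¹ = (2 : K)⁻¹ := by rw [map_inv₀, map_ofNat]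
      refine Prod.ext ?_ ?_ <;> simp [hc, hc', Algebra.smul_def, h2'] <;> ring
    rw [zc, hmap, hdet, ← map_mul] at hsq
    have hα1 : (α : K) + 1 ≠ 0 := fun h0 => by
      have h1 : α ^ 2 = 1 := Units.ext (by
        rw [Units.val_pow_eq_pow_val, eq_neg_of_add_eq_zero_left h0, neg_one_sq, Units.val_one])
      have := Nat.le_of_dvd two_pos (orderOf_dvd_of_pow_eq_one h1)
      omega
    have hcc : c * c' = c ^ 2 * ((α : K))⁻¹ := by
      rw [hc, hc', Units.val_inv_eq_inv_val]
      linear_combination (-((2 : K)⁻¹ ^ 2 * ((α : K) + 1))) * mul_inv_cancel₀ α.ne_zero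
    have hc0 : c ≠ 0 := mul_ne_zero (inv_ne_zero (by
      rw [← map_ofNat (algebraMap F K) 2]
      exact fun h0 => h2 ((algebraMap F K).injective (h0.trans (map_zero _).symm)))) hα1
    rw [hcc, map_mul, map_pow] at hsq
    obtain ⟨u, hu⟩ := hsq
    have hN0 : Algebra.norm F c ≠ 0 := by rwa [Algebra.norm_ne_zero_iff]
    have hNinv : Algebra.norm F ((α : K)⁻¹) = (u / Algebra.norm F c) ^ 2 := by
      field_simp
      linear_combination hu
    have hu0 : u / Algebra.norm F c ≠ 0 := fun h0 => by
      rw [h0, zero_pow two_ne_zero, Algebra.norm_eq_zero_iff] at hNinv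
      exact inv_ne_zero α.ne_zero hNinv
    have h1 := congrArg (fun x => algebraMap F K (x ^ ((q - 1) / 2))) hNinv
    simp only [map_pow, FiniteField.algebraMap_norm_eq_pow, hK, Nat.card_eq_fintype_card] at h1
    rw [← pow_mul, ← hqdef, geom_div hq2 hqo, ← pow_mul,
      show 2 * ((q - 1) / 2) = q - 1 by obtain ⟨r, hr⟩ := hqo; omega, ← map_pow, hqdef,
      FiniteField.pow_card_sub_one_eq_one _ hu0, map_one, inv_pow, inv_eq_one] at h1
    exact half_pow_ne hα (by omega) (Units.ext (by rw [Units.val_pow_eq_pow_val, h1, Units.val_one]))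
  · have h1 := unit_half_eq_neg hα (Nat.Odd.sub_odd hqo.pow odd_one) (by omega)
    rw [← map_pow]
    show (((α ^ ((q ^ d - 1) / 2) : Kˣ) : K) * v.1, (((α ^ ((q ^ d - 1) / 2))⁻¹ : Kˣ) : K) * v.2) =
      ((-v.1, -v.2) : K × K)
    rw [Units.val_inv_eq_inv_val, Units.val_pow_eq_pow_val, h1, inv_neg, inv_one, neg_one_mul, neg_one_mul]

theorem gen_minus (h2 : (2 : F) ≠ 0) {d : ℕ} (hd : 1 ≤ d) : Gen F d (-1) (Fintype.card F ^ d + 1) := by
  classical
  obtain ⟨p, hp⟩ := CharP.exists F
  haveI : Fact p.Prime := ⟨CharP.char_is_prime F p⟩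
  haveI : NeZero (2 * d) := ⟨by omega⟩
  let L := FiniteField.Extension F p (2 * d)
  haveI : Finite L := Module.finite_of_finite F
  letI : Fintype L := Fintype.ofFinite L
  set q := Fintype.card F with hqdef
  have hqo : Odd q := by
    refine Nat.odd_iff.2 (FiniteField.odd_card_of_char_ne_two fun h => h2 ?_)
    have := ringChar.Nat.cast_ringChar (R := F)
    rw [h] at this; exact_mod_cast this
  have hq2 : 2 ≤ q := Fintype.one_lt_card
  set Q := q ^ d with hQdef
  have hQ2 : 2 ≤ Q := hq2.trans (Nat.le_self_pow (by omega) q)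
  have hQo : Odd Q := hqo.pow
  have hL : Nat.card L = Q * Q := by
    rw [FiniteField.natCard_extension, Nat.card_eq_fintype_card, hQdef, ← pow_add, two_mul]
  have hfin : Module.finrank F L = 2 * d := FiniteField.finrank_extension F p (2 * d)
  have h2L : (2 : L) ≠ 0 := by
    rw [← map_ofNat (algebraMap F L) 2]
    exact fun h => h2 ((algebraMap F L).injective (h.trans (map_zero _).symm))
  let σ : L ≃ₐ[F] L := (FiniteField.frobeniusAlgEquivOfAlgebraic F L) ^ d
  have hσ : ∀ x : L, σ x = x ^ Q := fun x => by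
    show ((FiniteField.frobeniusAlgEquivOfAlgebraic F L) ^ d) x = _
    rw [AlgEquiv.coe_pow, FiniteField.coe_frobeniusAlgEquivOfAlgebraic_iterate]
  have hσσ : ∀ x : L, σ (σ x) = x := fun x => by
    rw [hσ, hσ, ← pow_mul, ← hL, Nat.card_eq_fintype_card, FiniteField.pow_card]
  obtain ⟨w, hw⟩ := isCyclic_iff_exists_orderOf_eq_natCard.1 (inferInstance : IsCyclic Lˣ)
  rw [Nat.card_units, hL] at hw
  have hfac : Q * Q - 1 = (Q + 1) * (Q - 1) := by rw [← Nat.sq_sub_sq, one_pow, pow_two]
  let θ : L := (2 : L)⁻¹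
  have hσθ : σ θ = θ := by simp only [θ]; rw [map_inv₀, map_ofNat]
  have hθ : θ + σ θ = 1 := by
    rw [hσθ]; simp only [θ]; linear_combination mul_inv_cancel₀ h2L
  set α := w ^ (Q - 1) with hαdef
  have hα : orderOf α = Q + 1 := by
    rw [hαdef, orderOf_pow, hw, hfac, Nat.gcd_mul_left_left, Nat.mul_div_cancel _ (by omega)]
  have hαN : (α : L) * σ (α : L) = 1 := by
    rw [hσ, mul_comm, ← pow_succ, ← Units.val_pow_eq_pow_val, ← hα, pow_orderOf_eq_one, Units.val_one]
  let B : LinearMap.BilinMap F L F :=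
    LinearMap.mk₂ F (fun x y : L => Algebra.trace F L (θ * x * σ y))
      (fun a b c => by simp [mul_add, add_mul]) (fun c a b => by simp)
      (fun a b c => by simp [mul_add]) (fun c a b => by simp)
  let R : QuadraticForm F L := B.toQuadraticMap
  have hR : ∀ x : L, R x = Algebra.trace F L (θ * x * σ x) := fun x => rfl
  have hpol : ∀ x y : L, polar ⇑R x y = Algebra.trace F L (x * σ y) := fun x y => by
    have h1 : Algebra.trace F L (θ * y * σ x) = Algebra.trace F L (σ θ * x * σ y) := by
      refine (Algebra.trace_eq_of_algEquiv σ (θ * y * σ x)).symm.trans (congrArg (Algebra.trace F L) ?_)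
      rw [map_mul σ, map_mul σ, hσσ]
      ring
    have h3 : polar ⇑R x y = Algebra.trace F L (θ * x * σ y) + Algebra.trace F L (θ * y * σ x) := by
      simp only [polar, hR, map_add σ]
      rw [← map_sub, ← map_sub, ← map_add (Algebra.trace F L)]
      exact congrArg (Algebra.trace F L) (by ring)
    rw [h3, h1, ← map_add]
    exact congrArg _ (by linear_combination (x * σ y) * hθ)
  have hnd : (polarBilin R).Nondegenerate := StdForms.nondegenerate_of_left _ fun u hu => by
    refine (traceForm_nondegenerate F L).1 u fun y => ?_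
    have := hu (σ y)
    rw [hpol, hσσ] at this
    show Algebra.trace F L (u * y) = 0
    exact this
  let h : Lˣ →* (L ≃ₗ[F] L) := MonoidHom.mk'
    (fun a =>
      { toFun := fun x => (a : L) * x
        invFun := fun x => ((a⁻¹ : Lˣ) : L) * x
        left_inv := fun x => by simp [← mul_assoc]
        right_inv := fun x => by simp [← mul_assoc]
        map_add' := fun x y => mul_add _ _ _
        map_smul' := fun c x => mul_smul_comm c _ _ })
    (fun a b => LinearEquiv.ext fun x => by simp [mul_assoc])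
  have hinj : Function.Injective h := fun a b e => Units.ext ((mul_one _).symm.trans
    ((LinearEquiv.congr_fun e (1 : L)).trans (mul_one _)))
  have hiso : ∀ v : L, R (h α v) = R v := fun v => by
    rw [hR, hR]
    show Algebra.trace F L (θ * ((α : L) * v) * σ ((α : L) * v)) = _
    rw [map_mul σ]
    exact congrArg (Algebra.trace F L) (by linear_combination (θ * v * σ v) * hαN)
  have hhalf : (α : L) ^ ((Q + 1) / 2) = -1 := unit_half_eq_neg hα hQo.add_one (by omega)
  refine Gen.mk' R (h α) hnd hfin ?_ hiso (by rw [orderOf_injective h hinj, hα]) ?_ (fun _ hsq => ?_) (fun v => ?_)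
  · rcases OrthPrime.qsgn_cases R with hs | hs
    swap
    · exact hs
    exfalso
    rcases Nat.lt_or_ge d 2 with hd1 | hd2
    · -- the plane is anisotropic
      obtain rfl : d = 1 := by omega
      obtain ⟨U, hU, hU0⟩ := (OrthPrime.qsgn_eq_one_iff R).1 hs
      obtain ⟨u, hu, hu0⟩ := Submodule.exists_mem_ne_zero_of_ne_bot (show U ≠ ⊥ from fun h0 => by
        rw [h0, finrank_bot, hfin] at hU; omega)
      have hval := congrArg (algebraMap F L) (hU0 u hu)
      rw [hR, FiniteField.algebraMap_trace_eq_sum_pow, show Module.finrank F L = 2 by omega,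
        Nat.card_eq_fintype_card, map_zero, Finset.sum_range_succ, Finset.sum_range_one, pow_zero, pow_one, pow_one] at hval
      have hQq : Q = q := pow_one q
      rw [← hqdef, ← hQq, ← hσ (θ * u * σ u), map_mul σ, map_mul σ, hσσ] at hval
      have : u * σ u = 0 := by linear_combination hval - (u * σ u) * hθ
      rcases mul_eq_zero.1 this with h0 | h0
      · exact hu0 h0
      · exact hu0 (σ.injective (h0.trans (map_zero σ).symm))
    · -- the zero set is a union of cosets of `⟨α⟩`
      have hC : Nat.card (Subgroup.zpowers α) = Q + 1 := by rw [Nat.card_zpowers, hα]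
      let S : Set Lˣ := {u | R (u : L) = 0}
      let T : Set (Lˣ ⧸ Subgroup.zpowers α) := {c | ∃ u : Lˣ, R (u : L) = 0 ∧ QuotientGroup.mk u = c}
      have hST : S = QuotientGroup.mk ⁻¹' T := by
        ext u
        refine ⟨fun hu => ⟨u, hu, rfl⟩, fun ⟨v, hv, hvu⟩ => ?_⟩
        rw [QuotientGroup.eq] at hvu
        obtain ⟨i, hi⟩ := (mem_powers_iff_mem_zpowers).2 hvu
        show R (u : L) = 0
        have hu : u = v * α ^ i := by rw [show α ^ i = v⁻¹ * u from hi, mul_inv_cancel_left]
        have hit : ∀ j : ℕ, R ((v * α ^ j : Lˣ) : L) = 0 := by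
          intro j
          induction j with
          | zero => simpa using hv
          | succ j ih =>
            rw [pow_succ', mul_left_comm, Units.val_mul]
            exact (hiso _).trans ih
        rw [hu]; exact hit i
      have hS : Nat.card S = (Q + 1) * Nat.card T := by
        rw [hST, Nat.card_congr (QuotientGroup.preimageMkEquivSubgroupProdSet _ T), Nat.card_prod, hC]
      have hZ : Nat.card {v : L // R v = 0} = Nat.card S + 1 := by
        have e : Option S ≃ {v : L // R v = 0} :=
          Equiv.ofBijective (fun o => o.elim ⟨0, map_zero R⟩ fun u => ⟨((u : Lˣ) : L), u.2⟩)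
            ⟨by
              rintro (_ | u) (_ | u') e
              · rfl
              · exact absurd (congrArg Subtype.val e).symm (u' : Lˣ).ne_zero
              · exact absurd (congrArg Subtype.val e) (u : Lˣ).ne_zero
              · exact congrArg some (Subtype.ext (Units.ext (congrArg Subtype.val e))),
             fun ⟨v, hv⟩ => by
              rcases eq_or_ne v 0 with rfl | hv0
              · exact ⟨none, rfl⟩
              · exact ⟨some ⟨Units.mk0 v hv0, hv⟩, rfl⟩⟩
        rw [← Nat.card_congr e, Finite.card_option]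
      have hval := OrthPrime.card_value_zero hfin hnd
      rw [hs, hZ, hS] at hval
      push_cast at hval
      have hQi : ((q : ℤ)) ^ d = (Q : ℤ) := by rw [hQdef]; push_cast; rfl
      rw [show Nat.card F = q from Nat.card_eq_fintype_card, pow_mul', hQi] at hval
      have hdvd : ((Q : ℤ) + 1) ∣ 2 * ((q : ℤ) - 1) :=
        ⟨(Q : ℤ) - 1 + ((q : ℤ) - 1) - q * (Nat.card T : ℤ), by linear_combination hval⟩
      have hle := Int.le_of_dvd (by omega) hdvd
      have : q * q ≤ Q := by
        rw [hQdef, ← pow_two]; exact Nat.pow_le_pow_right (by omega) hd2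
      have h22 : 2 * q ≤ q * q := Nat.mul_le_mul_right q hq2
      omega
  · rw [show (h α).toLinearMap = Algebra.lmul F L (α : L) from rfl, ← Algebra.norm_apply]
    apply (algebraMap F L).injective
    rw [map_one, FiniteField.algebraMap_norm_eq_pow, hL, Nat.card_eq_fintype_card, ← hqdef, hfac]
    obtain ⟨c, hc⟩ : q - 1 ∣ Q - 1 := by simpa [hQdef] using Nat.sub_dvd_pow_sub_pow q 1 d
    rw [hc, ← mul_assoc, mul_comm (Q + 1) (q - 1), mul_assoc, Nat.mul_div_cancel_left _ (by omega), pow_mul,
      ← Units.val_pow_eq_pow_val, ← hα, pow_orderOf_eq_one, Units.val_one, one_pow]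
  · set c := (2 : L)⁻¹ * ((α : L) + 1) with hc
    have hmap : (2 : F)⁻¹ • ((h α).toLinearMap + 1) = Algebra.lmul F L c := by
      refine LinearMap.ext fun x => ?_
      show (2 : F)⁻¹ • ((α : L) * x + x) = c * x
      rw [Algebra.smul_def, map_inv₀, map_ofNat, hc]
      ring
    rw [zc, hmap, ← Algebra.norm_apply] at hsq
    have hα1 : (α : L) + 1 ≠ 0 := fun h0 => by
      have h1 : α ^ 2 = 1 := Units.ext (by
        rw [Units.val_pow_eq_pow_val, eq_neg_of_add_eq_zero_left h0, neg_one_sq, Units.val_one])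
      have := Nat.le_of_dvd two_pos (orderOf_dvd_of_pow_eq_one h1)
      obtain ⟨r, hr⟩ := hQo
      omega
    have hc0 : c ≠ 0 := mul_ne_zero (inv_ne_zero h2L) hα1
    obtain ⟨u, hu⟩ := hsq
    have hu0 : u ≠ 0 := fun h0 => hc0 (Algebra.norm_eq_zero_iff.1 (by rw [hu, h0, mul_zero]))
    have h1 := congrArg (fun x => algebraMap F L (x ^ ((q - 1) / 2))) hu
    simp only [map_pow, FiniteField.algebraMap_norm_eq_pow, hL, Nat.card_eq_fintype_card] at h1
    rw [← pow_mul, ← hqdef, show Q * Q = q ^ (d + d) by rw [hQdef, pow_add], geom_div hq2 hqo,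
      ← map_pow, ← pow_two, ← pow_mul, show 2 * ((q - 1) / 2) = q - 1 by obtain ⟨r, hr⟩ := hqo; omega, hqdef,
      FiniteField.pow_card_sub_one_eq_one _ hu0, map_one, ← hqdef, pow_add, ← hQdef,
      show (Q * Q - 1) / 2 = (Q - 1) * ((Q + 1) / 2) by
        obtain ⟨r, hr⟩ := hQo
        rw [hfac, hr, show 2 * r + 1 + 1 = 2 * (r + 1) by ring, show 2 * r + 1 - 1 = 2 * r by omega, mul_assoc,
          Nat.mul_div_cancel_left _ two_pos, Nat.mul_div_cancel_left _ two_pos]
        ring, pow_mul] at h1
    have hcq : c ^ (Q - 1) = (α : L)⁻¹ := by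
      have hcQ : c ^ Q = (2 : L)⁻¹ * ((α : L)⁻¹ + 1) := by
        rw [← hσ, hc, map_mul, map_add, map_inv₀, map_ofNat, map_one, eq_inv_of_mul_eq_one_right hαN]
      rw [pow_sub₀ _ hc0 (by omega), pow_one, hcQ, ← div_eq_mul_inv, div_eq_iff hc0, hc]
      linear_combination (-(2 : L)⁻¹) * inv_mul_cancel₀ α.ne_zero
    rw [hcq, inv_pow, hhalf, inv_neg, inv_one] at h1
    exact h2L (by linear_combination -h1)
  · rw [← map_pow]
    show ((α ^ ((Q + 1) / 2) : Lˣ) : L) * v = -v
    rw [Units.val_pow_eq_pow_val, hhalf, neg_one_mul]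

end Cfsg.Agent.Lib.SpectrumNine
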