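import Mathlib
import Cfsg.Agent.Lib.SpectrumEight.Unipotent
import Cfsg.Agent.Lib.OrthPrime.Sub

/-!
Unipotent isometries with a Jordan block of any odd size, in odd characteristic.
-/

set_option autoImplicit false
set_option linter.unusedSectionVars false

namespace Cfsg.Agent.Lib.SpectrumNine

open QuadraticMap
open SpectrumEight (dlt ext conjHom hypPlane)

universe u

variable {F : Type u} [Field F] [Fintype F]

theorem unip_block (h2 : (2 : F) ≠ 0) : ∀ (j : ℕ) {V : Type u} [AddCommGroup V] [Module F V] [FiniteDimensional F V]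
    (R : QuadraticForm F V), (polarBilin R).Nondegenerate → 2 * j + 1 ≤ Module.finrank F V →
    ∃ (x : V ≃ₗ[F] V) (v : V), (∀ w, R (x w) = R w) ∧ (∀ w, (dlt x)^[2 * j + 1] w = 0) ∧
      polar ⇑R ((dlt x)^[2 * j] v) v ≠ 0 := by
  intro j
  induction j with
  | zero =>
    intro V _ _ _ R hR hd
    obtain ⟨v, hv⟩ : ∃ v, R v ≠ 0 := by
      by_contra hcon
      push Not at hcon
      haveI : Nontrivial V := Module.nontrivial_of_finrank_pos (R := F) (by omega)
      obtain ⟨w, hw⟩ := exists_ne (0 : V)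
      exact hw (hR.1 w fun y => by simp [polar, hcon])
    refine ⟨1, v, fun w => rfl, fun w => by simp [dlt], ?_⟩
    rw [mul_zero, Function.iterate_zero, id_eq, polar_self, two_nsmul, ← two_mul]
    exact mul_ne_zero h2 hv
  | succ j ih =>
    intro V _ _ _ R hR hd
    obtain ⟨W, hW, hWd, hWs⟩ := OrthPrime.exists_nd_sub (Q := R) hR (fun _ => h2) (l := 1) (Or.inl rfl)
      (fun h => absurd h one_ne_zero) (Or.inl (by omega))
    set W' := OrthPrime.qperp R W
    have hW' : OrthPrime.Nd R W' := OrthPrime.nd_qperp R hR hW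
    have hW'd := OrthPrime.finrank_qperp R hW
    have hnd' := (OrthPrime.nd_iff R W').2 hW'
    obtain ⟨φ, hφ⟩ := FormConj.exists_isometry_of_type (m := 1) le_rfl
      (V := F × F) (by simp) hWd SpectrumEight.hypPlane_nd ((OrthPrime.nd_iff R W).2 hW)
      (by rw [← OrthPrime.qsgn_eq_one_iff, ← OrthPrime.qsgn_eq_one_iff, SpectrumEight.qsgn_hypPlane, hWs])
    let Ψ : (W' × F × F) ≃ₗ[F] V :=
      (((LinearEquiv.refl F W').prodCongr φ).trans (LinearEquiv.prodComm F W' W)).trans (OrthPrime.splitEquiv R hW)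
    have hΨ : ∀ z, R (Ψ z) = ((OrthPrime.rQ R W').prod (hypPlane F)) z := fun z => by
      have h : Ψ z = OrthPrime.splitEquiv R hW (φ z.2, z.1) := rfl
      rw [h, OrthPrime.splitEquiv_form, QuadraticMap.prod_apply, QuadraticMap.prod_apply, hφ, add_comm]
    obtain ⟨x, v, hx, hN, hv⟩ := ih (OrthPrime.rQ R W') hnd' (by
      have : Module.finrank F W + Module.finrank F W' = Module.finrank F V := hW'd
      omega)
    set R' := OrthPrime.rQ R W'
    set w := (dlt x)^[2 * j] v with hw
    have hxw : x w = w := by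
      have := hN v
      rw [Function.iterate_succ_apply', ← hw, dlt, sub_eq_zero] at this
      exact this
    have hit : ∀ (n : ℕ) z, (dlt (conjHom Ψ (ext R' x v)))^[n] (Ψ z) = Ψ ((dlt (ext R' x v))^[n] z) := by
      intro n
      induction n with
      | zero => intro z; rfl
      | succ n ih =>
        intro z
        rw [Function.iterate_succ_apply', ih, Function.iterate_succ_apply']
        simp [dlt, conjHom]
    refine ⟨conjHom Ψ (ext R' x v), Ψ (0, 0, 1), fun z => ?_, fun z => ?_, ?_⟩
    · obtain ⟨z, rfl⟩ := Ψ.surjective z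
      simp [conjHom, hΨ, SpectrumEight.ext_iso R' x v hx]
    · obtain ⟨z, rfl⟩ := Ψ.surjective z
      rw [hit, show 2 * (j + 1) + 1 = 2 * j + 1 + 2 by ring,
        SpectrumEight.dlt_ext_nil R' x v (2 * j + 1) hN, map_zero]
    · rw [hit, show 2 * (j + 1) = 2 * j + 1 + 1 by ring, Function.iterate_succ_apply, SpectrumEight.dlt_ext,
        SpectrumEight.dlt_zero, zero_add, one_smul, Function.iterate_succ_apply']
      obtain ⟨δ, hδ⟩ := SpectrumEight.dlt_ext_iterate R' x v v (-polar ⇑R' (x 0) v - 1 * R' v) (2 * j)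
      rw [hδ, SpectrumEight.dlt_ext, ← hw, hxw, show dlt x w = 0 by rw [dlt, hxw, sub_self], zero_smul, add_zero,
        zero_mul, sub_zero]
      simp only [polar, ← map_add, hΨ, QuadraticMap.prod_apply, SpectrumEight.hypPlane_apply,
        Prod.mk_add_mk, Prod.fst_add, Prod.snd_add, add_zero, zero_add, map_zero, mul_one, mul_zero, sub_zero]
      exact neg_ne_zero.2 (by simpa [polar] using hv)

theorem unip_elem (h2 : (2 : F) ≠ 0) {p : ℕ} [Fact p.Prime] [CharP F p] (j : ℕ) {V : Type u} [AddCommGroup V]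
    [Module F V] [FiniteDimensional F V] (R : QuadraticForm F V) (hR : (polarBilin R).Nondegenerate)
    (hd : 2 * j + 1 ≤ Module.finrank F V) :
    ∃ (x : V ≃ₗ[F] V) (v : V), (∀ w, R (x w) = R w) ∧ (∀ e, 2 * j + 1 ≤ p ^ e → x ^ p ^ e = 1) ∧
      (∀ e, p ^ e ≤ 2 * j → x ^ p ^ e ≠ 1) ∧
      (∀ e, p ^ e = 2 * j + 1 → ∑ i ∈ Finset.range (p ^ e), (x ^ i) v ≠ 0) := by
  obtain ⟨x, v, hx, hN, hv⟩ := unip_block h2 j R hR hd
  haveI : Nontrivial V := Module.nontrivial_of_finrank_pos (R := F) (by omega)
  haveI : CharP (Module.End F V) p :=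
    charP_of_injective_algebraMap (algebraMap F (Module.End F V)).injective p
  set A : Module.End F V := x.toLinearMap with hA
  have hAi : ∀ (i : ℕ) z, (A ^ i) z = (x ^ i) z := by
    intro i
    induction i with
    | zero => intro z; rfl
    | succ i ih => intro z; rw [pow_succ', Module.End.mul_apply, ih, pow_succ', LinearEquiv.mul_apply]; rfl
  have hNi : ∀ (i : ℕ) z, ((A - 1) ^ i) z = (dlt x)^[i] z := by
    intro i
    induction i with
    | zero => intro z; rfl
    | succ i ih => intro z; rw [pow_succ', Module.End.mul_apply, ih, Function.iterate_succ_apply']; rfl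
  have hfrob : ∀ e, (A - 1) ^ p ^ e = A ^ p ^ e - 1 := fun e => by
    rw [sub_pow_char_pow_of_commute p e (Commute.one_right A), one_pow]
  have hne : ((A - 1) ^ (2 * j)) v ≠ 0 := fun h => hv (by rw [← hNi, h, polar_zero_left])
  refine ⟨x, v, hx, fun e he => LinearEquiv.ext fun z => ?_, fun e he h => hne ?_, fun e he => ?_⟩
  · have h1 : ((A - 1) ^ p ^ e) z = 0 := by
      rw [show p ^ e = (p ^ e - (2 * j + 1)) + (2 * j + 1) by omega, pow_add, Module.End.mul_apply, hNi (2 * j + 1),
        hN, map_zero]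
    rw [hfrob, LinearMap.sub_apply, hAi, Module.End.one_apply, sub_eq_zero] at h1
    exact h1
  · rw [show 2 * j = (2 * j - p ^ e) + p ^ e by omega, pow_add, Module.End.mul_apply, hfrob, LinearMap.sub_apply,
      hAi, h, LinearEquiv.coe_one, id_eq, Module.End.one_apply, sub_self, map_zero]
  · have hpoly : ∑ i ∈ Finset.range (p ^ e), (Polynomial.X : Polynomial F) ^ i = (Polynomial.X - 1) ^ (2 * j) := by
      have hX : (Polynomial.X : Polynomial F) - 1 ≠ 0 := by simpa using Polynomial.X_sub_C_ne_zero (1 : F)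
      refine mul_right_cancel₀ hX ?_
      rw [geom_sum_mul, ← pow_succ, ← he, sub_pow_char_pow, one_pow]
    have h := congrArg (fun f => Polynomial.aeval A f v) hpoly
    simp only [map_sum, map_pow, Polynomial.aeval_X, map_sub, map_one, LinearMap.sum_apply] at h
    rw [Finset.sum_congr rfl fun i _ => hAi i v] at h
    rw [h]
    exact hne

end Cfsg.Agent.Lib.SpectrumNine
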