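import Mathlib
import Cfsg.Agent.Lib.SpectrumNine.Affine
import Cfsg.Agent.Lib.SpectrumNine.Gen
import Cfsg.Agent.Lib.SpectrumNine.Unip
import Cfsg.Agent.Lib.Forms.Bridge

/-!
Elements of `Ω₉(q)` and of `V ⋊ Ω₈⁻(q)` realising the fourteen orders.
-/

set_option autoImplicit false
set_option linter.unusedSectionVars false

namespace Cfsg.Agent.Lib.SpectrumNine

open QuadraticMap
open SpectrumEight (conjHom conjHom_injective prodHom prodHom_injective)

universe u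

variable {F : Type u} [Field F] [Fintype F]

variable (F) in
/-- An element of `Ω` of order a multiple of `L` on a space of dimension `2 k`. -/
def Tor (k L : ℕ) : Prop :=
  ∃ R : QuadraticForm F (Fin (2 * k) → F), (polarBilin R).Nondegenerate ∧ (k = 4 → OrthPrime.qsgn R = -1) ∧
    ∃ t : ↥(Cfsg.isometryGroup F ⇑R), t ∈ Cfsg.Omega F ⇑R ∧ L ∣ orderOf t

section Group

variable {ι : Type} [Fintype ι] [DecidableEq ι]

theorem sq_mem (h2 : (2 : F) ≠ 0) {Q : QuadraticForm F (ι → F)} (hQ : (polarBilin Q).Nondegenerate)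
    (hn : 2 ≤ Fintype.card ι) (g : ↥(Cfsg.isometryGroup F ⇑Q)) : g ^ 2 ∈ Cfsg.Omega F ⇑Q := by
  rw [Orth.mem_omega_iff h2 hQ hn, map_pow, map_pow, Int.units_sq, Int.units_sq]
  exact ⟨rfl, rfl⟩

theorem odd_pow_mem (h2 : (2 : F) ≠ 0) {Q : QuadraticForm F (ι → F)} (hQ : (polarBilin Q).Nondegenerate)
    (hn : 2 ≤ Fintype.card ι) {g : ↥(Cfsg.isometryGroup F ⇑Q)} {m : ℕ} (hm : Odd m) (h : g ^ m = 1) :
    g ∈ Cfsg.Omega F ⇑Q :=
  (Orth.mem_omega_iff h2 hQ hn g).2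
    ⟨POmegaSemi.sign_eq_one_of_pow _ hm h, POmegaSemi.sign_eq_one_of_pow _ hm h⟩

theorem det_sign_spinor (h2 : (2 : F) ≠ 0) {Q : QuadraticForm F (ι → F)} (hQ : (polarBilin Q).Nondegenerate)
    (hn : 2 ≤ Fintype.card ι) (g : ↥(Cfsg.isometryGroup F ⇑Q))
    (hdet : LinearMap.det (Forms.isoToEquiv _ g).toLinearMap = 1) (hz : zc (Forms.isoToEquiv _ g) ≠ 0) :
    Orth.detSign Q h2 hQ g = 1 ∧ (Orth.spinor Q g = 1 ↔ IsSquare (zc (Forms.isoToEquiv _ g))) := by
  classical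
  set M := ((g : Matrix.GeneralLinearGroup ι F) : Matrix ι ι F) with hM
  have h1 : (Forms.isoToEquiv _ g).toLinearMap = Matrix.toLin' M := LinearMap.ext fun v => rfl
  have hd : M.det = 1 := by rw [← hdet, h1, LinearMap.det_toLin']
  have hmap : Matrix.toLin' ((2 : F)⁻¹ • (M + 1)) = (2 : F)⁻¹ • ((Forms.isoToEquiv _ g).toLinearMap + 1) := by
    rw [map_smul, map_add, Matrix.toLin'_one, h1]; rfl
  have hzc : zc (Forms.isoToEquiv _ g) = ((2 : F)⁻¹ • (M + 1)).det := by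
    rw [zc, ← hmap, LinearMap.det_toLin']
  refine ⟨by simp [Orth.detSign, ← hM, hd], ?_⟩
  rw [hzc] at hz ⊢
  rw [POmegaSemi.spinor_zassenhaus hQ h2 hn g hz]
  exact POmegaSemi.sqsgn_one_iff _

end Group

theorem zc_prod {V W : Type*} [AddCommGroup V] [Module F V] [FiniteDimensional F V] [AddCommGroup W] [Module F W]
    [FiniteDimensional F W] (a : V ≃ₗ[F] V) (b : W ≃ₗ[F] W) :
    zc (prodHom V W (a, b)) = zc a * zc b := by
  rw [zc, zc, zc, ← LinearMap.det_prodMap]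
  exact congrArg _ (LinearMap.ext fun z => rfl)

theorem det_prod {V W : Type*} [AddCommGroup V] [Module F V] [FiniteDimensional F V] [AddCommGroup W] [Module F W]
    [FiniteDimensional F W] (a : V ≃ₗ[F] V) (b : W ≃ₗ[F] W) :
    LinearMap.det (prodHom V W (a, b)).toLinearMap = LinearMap.det a.toLinearMap * LinearMap.det b.toLinearMap := by
  rw [← LinearMap.det_prodMap]
  exact congrArg _ (LinearMap.ext fun z => rfl)

theorem zc_one (h2 : (2 : F) ≠ 0) {V : Type*} [AddCommGroup V] [Module F V] :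
    zc (1 : V ≃ₗ[F] V) = 1 := by
  rw [zc, show ((1 : V ≃ₗ[F] V).toLinearMap + 1) = (2 : F) • 1 by rw [two_smul]; rfl, smul_smul,
    inv_mul_cancel₀ h2, one_smul, map_one]

theorem isSquare_mul (h2 : (2 : F) ≠ 0) {a b : F} (ha : ¬ IsSquare a) (hb : ¬ IsSquare b) : IsSquare (a * b) := by
  have ha0 : a ≠ 0 := fun h => ha (h ▸ IsSquare.zero)
  have hb0 : b ≠ 0 := fun h => hb (h ▸ IsSquare.zero)
  have h : POmegaSemi.sqsgn (Units.mk0 a ha0 * Units.mk0 b hb0) = 1 := by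
    rw [map_mul, (Int.units_eq_one_or _).resolve_left fun h => ha ((POmegaSemi.sqsgn_one_iff _).1 h),
      (Int.units_eq_one_or _).resolve_left fun h => hb ((POmegaSemi.sqsgn_one_iff _).1 h)]
    rfl
  exact (POmegaSemi.sqsgn_one_iff _).1 h

theorem tor_sq (h2 : (2 : F) ≠ 0) {d n : ℕ} {s : ℤ} (hd : 1 ≤ d) (hs : d = 4 → s = -1) (hn : Even n)
    (h : Gen F d s n) : Tor F d (n / 2) := by
  obtain ⟨R, e, hR, hsR, he, ho, -, -, -⟩ := h
  refine ⟨R, hR, fun hd4 => by rw [hsR, hs hd4], (Forms.isoMk e he) ^ 2, sq_mem h2 hR (by simp; omega) _, ?_⟩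
  rw [orderOf_pow' _ two_ne_zero, ← orderOf_injective _ (Forms.isoToEquiv_injective _), Forms.isoToEquiv_isoMk, ho,
    Nat.gcd_eq_right hn.two_dvd]

theorem dvd_lcm_half {a b L : ℕ} (ha : 0 < a) (hg : Nat.gcd a b ∣ 2) (hL : L * 2 ∣ a * b) : L ∣ Nat.lcm a b := by
  refine Nat.dvd_of_mul_dvd_mul_right (Nat.gcd_pos_of_pos_left b ha) ?_
  rw [mul_comm (Nat.lcm a b), Nat.gcd_mul_lcm]
  exact (Nat.mul_dvd_mul_left L hg).trans hL

theorem tor_pair (h2 : (2 : F) ≠ 0) {k l a b L : ℕ} {s s' : ℤ} (hkl : 1 ≤ k + l) (hs : k + l = 4 → s * s' = -1)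
    (h : Gen F k s a) (h' : Gen F l s' b) (ha : 3 ≤ a) (hb : 3 ≤ b)
    (hL : L ∣ Nat.lcm a b) : Tor F (k + l) L := by
  obtain ⟨R, e, hR, hsR, he, ho, hde, hze, -⟩ := h
  obtain ⟨T, f, hT, hsT, hf, ho', hdf, hzf, -⟩ := h'
  have hd : Module.finrank F (Fin (2 * k) → F) = 2 * k := Module.finrank_fin_fun F
  have hd' : Module.finrank F (Fin (2 * l) → F) = 2 * l := Module.finrank_fin_fun F
  have hD : Module.finrank F ((Fin (2 * k) → F) × (Fin (2 * l) → F)) = 2 * (k + l) := by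
    rw [Module.finrank_prod, hd, hd', mul_add]
  let φ := (Module.finBasisOfFinrankEq F _ hD).equivFun
  have hφ : ∀ z, (R.prod T).comp φ.symm.toLinearMap (φ z) = R.prod T z := fun z => by simp
  set U := (R.prod T).comp φ.symm.toLinearMap
  have hU : (polarBilin U).Nondegenerate := FormConj.nondegenerate_congr φ hφ (FormConj.prod_nondegenerate hR hT)
  have hiso : ∀ v, U (conjHom φ (prodHom _ _ (e, f)) v) = U v := fun v => by
    obtain ⟨z, rfl⟩ := φ.surjective v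
    rw [hφ]
    show U (φ (prodHom _ _ (e, f) (φ.symm (φ z)))) = _
    rw [hφ, φ.symm_apply_apply]
    show R.prod T (e z.1, f z.2) = _
    simp [QuadraticMap.prod_apply, he, hf]
  have hsq := isSquare_mul h2 (hze ha) (hzf hb)
  have hn : 2 ≤ Fintype.card (Fin (2 * (k + l))) := by simp; omega
  refine ⟨U, hU, fun h4 => ?_, Forms.isoMk _ hiso, ?_, ?_⟩
  · rw [OrthPrime.qsgn_congr φ hφ, OrthPrime.qsgn_prod hd hd' hR hT, hsR, hsT, hs h4]
  · have h1 : LinearMap.det (Forms.isoToEquiv _ (Forms.isoMk _ hiso)).toLinearMap = 1 := by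
      rw [Forms.isoToEquiv_isoMk, det_conjHom, det_prod, hde, hdf, one_mul]
    have h3 : zc (Forms.isoToEquiv _ (Forms.isoMk _ hiso)) = zc e * zc f := by
      rw [Forms.isoToEquiv_isoMk, zc_conjHom, zc_prod]
    obtain ⟨h4, h5⟩ := det_sign_spinor h2 hU hn (Forms.isoMk _ hiso) h1 (by
      rw [h3]
      exact mul_ne_zero (fun h => hze ha (h ▸ IsSquare.zero)) (fun h => hzf hb (h ▸ IsSquare.zero)))
    exact (Orth.mem_omega_iff h2 hU hn _).2 ⟨h4, h5.2 (by rw [h3]; exact hsq)⟩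
  · rw [← orderOf_injective _ (Forms.isoToEquiv_injective _), Forms.isoToEquiv_isoMk,
      orderOf_injective _ (conjHom_injective φ), orderOf_injective _ (prodHom_injective _ _), Prod.orderOf, ho, ho']
    exact hL

theorem tor_zero : Tor F 0 1 := by
  refine ⟨0, StdForms.nondegenerate_of_left _ fun u _ => funext fun i => i.elim0, by omega, 1, one_mem _, ?_⟩
  exact one_dvd _

/-- The exceptional row for `q = 3`. -/
theorem tor_neg (h2 : (2 : F) ≠ 0) {n : ℕ} (hn : 3 ≤ n) (h : Gen F 3 (-1) n) (hpl : Gen F 1 1 (Fintype.card F - 1))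
    (h4 : Gen F 4 (-1) (Fintype.card F ^ 4 + 1)) : Tor F 4 n := by
  obtain ⟨R, a, hR, hsR, ha, hao, hda, hza, -⟩ := h
  obtain ⟨T, -, hT, hsT, -, -, -, -, -⟩ := hpl
  obtain ⟨U, e, hU, hsU, he, heo, hde, hze, hneg⟩ := h4
  set q := Fintype.card F with hq
  have hd : Module.finrank F (Fin (2 * 3) → F) = 2 * 3 := Module.finrank_fin_fun F
  have hd' : Module.finrank F (Fin (2 * 1) → F) = 2 * 1 := Module.finrank_fin_fun F
  obtain ⟨φ, hφ⟩ := FormConj.exists_isometry_of_type (m := 4) (by norm_num)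
    (V := (Fin (2 * 3) → F) × (Fin (2 * 1) → F)) (W := Fin (2 * 4) → F)
    (by rw [Module.finrank_prod, hd, hd']) (Module.finrank_fin_fun F)
    (FormConj.prod_nondegenerate hR hT) hU
    (by rw [← OrthPrime.qsgn_eq_one_iff, ← OrthPrime.qsgn_eq_one_iff, OrthPrime.qsgn_prod hd hd' hR hT, hsR, hsT,
      hsU, mul_one])
  have hiso : ∀ v, U (conjHom φ (prodHom _ _ (a, 1)) v) = U v := fun v => by
    obtain ⟨z, rfl⟩ := φ.surjective v
    show U (φ (prodHom _ _ (a, (1 : (Fin (2 * 1) → F) ≃ₗ[F] _)) (φ.symm (φ z)))) = _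
    rw [hφ, φ.symm_apply_apply, hφ]
    show R.prod T (a z.1, z.2) = _
    simp [QuadraticMap.prod_apply, ha]
  have hqo : Odd q := odd_card h2
  have hn2 : 2 ≤ Fintype.card (Fin (2 * 4)) := by simp
  set g₀ := Forms.isoMk (conjHom φ (prodHom _ _ (a, 1))) hiso with hg₀
  set g₁ := Forms.isoMk e he with hg₁
  have h1 := det_sign_spinor h2 hU hn2 g₀ (by
      rw [hg₀, Forms.isoToEquiv_isoMk, det_conjHom, det_prod, hda]
      simp)
    (by
      rw [hg₀, Forms.isoToEquiv_isoMk, zc_conjHom, zc_prod]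
      refine mul_ne_zero (fun h => hza hn (h ▸ IsSquare.zero)) ?_
      rw [zc_one h2]
      exact one_ne_zero)
  have hne3 : 3 ≤ q ^ 4 + 1 := by
    have := Nat.one_lt_pow (n := 4) (by norm_num) (show 1 < q from Fintype.one_lt_card)
    omega
  have h3 := det_sign_spinor h2 hU hn2 g₁ (by rw [hg₁, Forms.isoToEquiv_isoMk, hde])
    (by rw [hg₁, Forms.isoToEquiv_isoMk]; exact fun h => hze hne3 (h ▸ IsSquare.zero))
  have hs₀ : Orth.spinor U g₀ = -1 := (Int.units_eq_one_or _).resolve_left fun h => hza hn (by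
    have := h1.2.1 h
    rw [hg₀, Forms.isoToEquiv_isoMk, zc_conjHom, zc_prod] at this
    obtain ⟨u, hu⟩ := this
    rw [zc_one h2, mul_one] at hu
    exact ⟨u, hu⟩)
  have hs₁ : Orth.spinor U g₁ = -1 := (Int.units_eq_one_or _).resolve_left fun h => hze hne3 (by
    have := h3.2.1 h
    rwa [hg₁, Forms.isoToEquiv_isoMk] at this)
  set m := (q ^ 4 + 1) / 2 with hm
  have hmo : Odd m := by
    obtain ⟨r, hr⟩ := hqo
    refine ⟨4 * r ^ 4 + 8 * r ^ 3 + 6 * r ^ 2 + 2 * r, ?_⟩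
    rw [hm, hr, Nat.div_eq_of_eq_mul_left two_pos]
    ring
  refine ⟨U, hU, fun _ => hsU, g₁ ^ m * g₀, (Orth.mem_omega_iff h2 hU hn2 _).2 ⟨?_, ?_⟩, ?_⟩
  · rw [map_mul, map_pow, h3.1, h1.1, one_pow, one_mul]
  · rw [map_mul, map_pow, hs₁, hs₀, hmo.neg_one_pow]; rfl
  · set g := g₁ ^ m * g₀
    have hg : ∀ z, Forms.isoToEquiv _ g (φ z) = φ (-a z.1, -z.2) := fun z => by
      rw [map_mul, map_pow, LinearEquiv.mul_apply, hg₀, hg₁, Forms.isoToEquiv_isoMk, Forms.isoToEquiv_isoMk, hm, hneg]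
      show -φ (prodHom _ _ (a, (1 : (Fin (2 * 1) → F) ≃ₗ[F] _)) (φ.symm (φ z))) = _
      rw [φ.symm_apply_apply, ← map_neg]
      rfl
    have hit : ∀ (i : ℕ) z, (Forms.isoToEquiv _ g ^ i) (φ z) =
        φ ((-1 : F) ^ i • (a ^ i) z.1, (-1 : F) ^ i • z.2) := by
      intro i
      induction i with
      | zero => intro z; simp
      | succ i ih =>
        intro z
        rw [pow_succ', LinearEquiv.mul_apply, ih, hg]
        refine congrArg φ (Prod.ext ?_ ?_)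
        · show -a ((-1 : F) ^ i • (a ^ i) z.1) = (-1 : F) ^ (i + 1) • (a ^ (i + 1)) z.1
          rw [map_smul, pow_succ' a, LinearEquiv.mul_apply, pow_succ, mul_smul, neg_one_smul, smul_neg]
        · show -((-1 : F) ^ i • z.2) = (-1 : F) ^ (i + 1) • z.2
          rw [pow_succ, mul_smul, neg_one_smul, smul_neg]
    have ho := pow_orderOf_eq_one g
    have hz : ∀ z, φ ((-1 : F) ^ orderOf g • (a ^ orderOf g) z.1, (-1 : F) ^ orderOf g • z.2) = φ z := fun z => by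
      rw [← hit, ← map_pow, ho, map_one]; rfl
    have hev : (-1 : F) ^ orderOf g = 1 := by
      have := congrArg (fun z : (Fin (2 * 3) → F) × (Fin (2 * 1) → F) => z.2 0)
        (φ.injective (hz (0, Pi.single 0 1)))
      simpa using this
    rw [← hao]
    refine orderOf_dvd_of_pow_eq_one (LinearEquiv.ext fun x => ?_)
    have := congrArg Prod.fst (φ.injective (hz (x, 0)))
    rw [hev, one_smul] at this
    exact this

theorem tor_row (h2 : (2 : F) ≠ 0) (j : Fin 14) :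
    ∃ L, LRow (Fintype.card F) j ∣ L ∧ Tor F (4 - cRow j) L := by
  obtain ⟨r, hr⟩ := odd_card (F := F) h2
  have hr1 : 1 ≤ r := by
    have := Fintype.one_lt_card (α := F)
    omega
  have hP : ∀ d, 1 ≤ d → Gen F d 1 (Fintype.card F ^ d - 1) := fun d hd => gen_plus h2 hd
  have hM : ∀ d, 1 ≤ d → Gen F d (-1) (Fintype.card F ^ d + 1) := fun d hd => gen_minus h2 hd
  have hP1 : Gen F 1 1 (Fintype.card F - 1) := by simpa using hP 1 le_rfl
  have hM1 : Gen F 1 (-1) (Fintype.card F + 1) := by simpa using hM 1 le_rfl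
  set q := Fintype.card F with hq
  have hqo : Odd q := ⟨r, hr⟩
  have hep : ∀ d, Even (q ^ d + 1) := fun d => hqo.pow.add_one
  have hem : ∀ d, Even (q ^ d - 1) := fun d => Nat.Odd.sub_odd hqo.pow odd_one
  have hd2a : q + 1 ∣ q ^ 2 - 1 := ⟨q - 1, by simpa using Nat.sq_sub_sq q 1⟩
  have hd2b : q - 1 ∣ q ^ 2 - 1 := ⟨q + 1, by rw [mul_comm]; simpa using Nat.sq_sub_sq q 1⟩
  have hd3a : q + 1 ∣ q ^ 3 + 1 := by
    simpa using Odd.nat_add_dvd_pow_add_pow q 1 (n := 3) (by decide)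
  have hd3b : q - 1 ∣ q ^ 3 - 1 := by simpa using Nat.sub_dvd_pow_sub_pow q 1 3
  have hgcd : ∀ i, Nat.gcd (q ^ i + 1) (q ^ i - 1) ∣ 2 := fun i => by
    have := Nat.dvd_sub (Nat.gcd_dvd_left (q ^ i + 1) (q ^ i - 1)) (Nat.gcd_dvd_right (q ^ i + 1) (q ^ i - 1))
    have h1 : 1 ≤ q ^ i := Nat.one_le_pow _ _ (by omega)
    rwa [show q ^ i + 1 - (q ^ i - 1) = 2 by omega] at this
  have hgA : ∀ {i x}, x ∣ q ^ i - 1 → Nat.gcd (q ^ i + 1) x ∣ 2 := fun h =>
    (Nat.dvd_gcd (Nat.gcd_dvd_left _ _) ((Nat.gcd_dvd_right _ _).trans h)).trans (hgcd _)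
  have hgB : ∀ {i x}, x ∣ q ^ i + 1 → Nat.gcd (q ^ i - 1) x ∣ 2 := fun h =>
    (Nat.dvd_gcd ((Nat.gcd_dvd_right _ _).trans h) (Nat.gcd_dvd_left _ _)).trans (hgcd _)
  have h9 : 9 ≤ q ^ 2 := by
    calc 9 = 3 ^ 2 := rfl
      _ ≤ q ^ 2 := Nat.pow_le_pow_left (by omega) 2
  have h27 : 27 ≤ q ^ 3 := by
    calc 27 = 3 ^ 3 := rfl
      _ ≤ q ^ 3 := Nat.pow_le_pow_left (by omega) 3
  have hh1 : (q + 1) / 2 = r + 1 := by omega
  have hh2 : (q - 1) / 2 = r := by omega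
  have row6 : Tor F 3 ((q ^ 2 + 1) * (r + 1)) := tor_pair h2 (k := 2) (l := 1) (by norm_num) (by norm_num)
    (hM 2 (by norm_num)) hM1 (by omega) (by omega)
    (dvd_lcm_half (by omega) (hgA hd2a) (dvd_of_eq (by rw [hr]; ring)))
  fin_cases j
  · exact ⟨_, dvd_rfl, tor_sq h2 (d := 4) (by norm_num) (fun _ => rfl) (hep 4) (hM 4 (by norm_num))⟩
  · refine ⟨_, ?_, tor_pair h2 (k := 2) (l := 2) (L := (q ^ 4 - 1) / 2) (by norm_num) (fun _ => by norm_num)
      (hM 2 (by norm_num)) (hP 2 (by norm_num)) (by omega) (by omega) (dvd_lcm_half (by omega) (hgcd 2) ?_)⟩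
    · simp [LRow]
    · rw [Nat.div_mul_cancel (hem 4).two_dvd]
      exact dvd_of_eq (by rw [show q ^ 4 = (q ^ 2) ^ 2 by ring]; simpa using Nat.sq_sub_sq (q ^ 2) 1)
  · refine ⟨(q ^ 3 - 1) * (r + 1), by simp [LRow, hh1], tor_pair h2 (k := 3) (l := 1) (by norm_num)
      (fun _ => by norm_num) (hP 3 (by norm_num)) hM1 (by omega) (by omega) (dvd_lcm_half (by omega) (hgB hd3a) ?_)⟩
    exact dvd_of_eq (by rw [mul_assoc]; congr 1; omega)
  · by_cases hr2 : r = 1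
    · refine ⟨q ^ 3 + 1, by simp [LRow, hh2, hr2], ?_⟩
      exact tor_neg h2 (by omega) (hM 3 (by norm_num)) hP1 (hM 4 (by norm_num))
    · refine ⟨(q ^ 3 + 1) * r, by simp [LRow, hh2], tor_pair h2 (k := 3) (l := 1) (by norm_num)
        (fun _ => by norm_num) (hM 3 (by norm_num)) hP1 (by omega) (by omega) (dvd_lcm_half (by omega) (hgA hd3b) ?_)⟩
      exact dvd_of_eq (by rw [mul_assoc]; congr 1; omega)
  · exact ⟨_, dvd_rfl, tor_sq h2 (d := 3) (by norm_num) (by norm_num) (hep 3) (hM 3 (by norm_num))⟩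
  · exact ⟨_, dvd_rfl, tor_sq h2 (d := 3) (by norm_num) (by norm_num) (hem 3) (hP 3 (by norm_num))⟩
  · exact ⟨_, by simp [LRow, hh1], row6⟩
  · by_cases hr2 : r = 1
    · exact ⟨_, by simp [LRow, hh2, hr2, dvd_mul_right], row6⟩
    · refine ⟨(q ^ 2 + 1) * r, by simp [LRow, hh2], tor_pair h2 (k := 2) (l := 1) (by norm_num) (by norm_num)
        (hM 2 (by norm_num)) hP1 (by omega) (by omega) (dvd_lcm_half (by omega) (hgA hd2b) ?_)⟩
      exact dvd_of_eq (by rw [mul_assoc]; congr 1; omega)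
  · exact ⟨q ^ 2 - 1, by simp [LRow], tor_pair h2 (k := 2) (l := 1) (by norm_num) (by norm_num)
      (hP 2 (by norm_num)) hM1 (by omega) (by omega) (Nat.dvd_lcm_left _ _)⟩
  · exact ⟨_, dvd_rfl, tor_sq h2 (d := 2) (by norm_num) (by norm_num) (hep 2) (hM 2 (by norm_num))⟩
  · exact ⟨_, dvd_rfl, tor_sq h2 (d := 2) (by norm_num) (by norm_num) (hem 2) (hP 2 (by norm_num))⟩
  · exact ⟨_, by simp [LRow], tor_sq h2 (d := 1) le_rfl (by norm_num) hqo.add_one hM1⟩
  · exact ⟨_, by simp [LRow], tor_sq h2 (d := 1) le_rfl (by norm_num) (Nat.Odd.sub_odd hqo odd_one) hP1⟩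
  · exact ⟨1, by simp [LRow], tor_zero⟩

end Cfsg.Agent.Lib.SpectrumNine
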