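import Mathlib
import Cfsg.Agent.Lib.SpectrumNine.Realise
import Cfsg.Agent.Lib.ElementOrders.Basic
import Cfsg.Agent.Lib.Orth.StandardOdd
import Cfsg.Agent.Lib.Orth.Centre

/-!
`Ω₉(q)` and `V ⋊ Ω₈⁻(q)` have the same element orders, `q` odd.
-/

set_option autoImplicit false
set_option linter.unusedSectionVars false

namespace Cfsg.Agent.Lib.SpectrumNine

open QuadraticMap
open SpectrumEight (conjHom conjHom_injective prodHom prodHom_injective)

universe u

variable {F : Type u} [Field F] [Fintype F]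

theorem coprime_LRow (h2 : (2 : F) ≠ 0) (j : Fin 14) :
    Nat.Coprime (ringChar F) (LRow (Fintype.card F) j) := by
  set p := ringChar F
  set q := Fintype.card F with hqdef
  haveI : Fact p.Prime := ⟨prime_ringChar⟩
  obtain ⟨e, -, he⟩ := FiniteField.card F p
  have hq1 : 1 ≤ q := Fintype.card_pos
  have hpq : p ∣ q := by rw [hqdef, he]; exact dvd_pow_self p e.ne_zero
  have hpp : p.Prime := prime_ringChar
  have hA : ∀ i, i ≠ 0 → Nat.Coprime p (q ^ i + 1) := fun i hi => (Nat.Prime.coprime_iff_not_dvd hpp).2 fun h => by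
    have := (Nat.dvd_add_right (hpq.trans (dvd_pow_self q hi))).1 h
    exact hpp.one_lt.ne' (Nat.dvd_one.1 this)
  have hB : ∀ i, i ≠ 0 → Nat.Coprime p (q ^ i - 1) := fun i hi => (Nat.Prime.coprime_iff_not_dvd hpp).2 fun h => by
    have h' := Nat.dvd_sub (hpq.trans (dvd_pow_self q hi)) h
    rw [show q ^ i - (q ^ i - 1) = 1 by have := Nat.one_le_pow i q hq1; omega] at h'
    exact hpp.one_lt.ne' (Nat.dvd_one.1 h')
  have hqo := odd_card (F := F) h2
  have hA1 : Nat.Coprime p ((q + 1) / 2) := Nat.Coprime.coprime_dvd_right (Nat.div_dvd_of_dvd hqo.add_one.two_dvd)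
    (by simpa using hA 1 one_ne_zero)
  have hB1 : Nat.Coprime p ((q - 1) / 2) := Nat.Coprime.coprime_dvd_right
    (Nat.div_dvd_of_dvd (Nat.Odd.sub_odd hqo odd_one).two_dvd) (by simpa using hB 1 one_ne_zero)
  have hA' : ∀ i, i ≠ 0 → Nat.Coprime p ((q ^ i + 1) / 2) := fun i hi =>
    Nat.Coprime.coprime_dvd_right (Nat.div_dvd_of_dvd hqo.pow.add_one.two_dvd) (hA i hi)
  have hB' : ∀ i, i ≠ 0 → Nat.Coprime p ((q ^ i - 1) / 2) := fun i hi =>
    Nat.Coprime.coprime_dvd_right (Nat.div_dvd_of_dvd (Nat.Odd.sub_odd hqo.pow odd_one).two_dvd) (hB i hi)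
  fin_cases j
  · exact hA' 4 (by norm_num)
  · exact hB' 4 (by norm_num)
  · exact (hB 3 (by norm_num)).mul_right hA1
  · exact (hA 3 (by norm_num)).mul_right hB1
  · exact hA' 3 (by norm_num)
  · exact hB' 3 (by norm_num)
  · exact (hA 2 (by norm_num)).mul_right hA1
  · exact (hA 2 (by norm_num)).mul_right hB1
  · exact hB 2 (by norm_num)
  · exact hA' 2 (by norm_num)
  · exact hB' 2 (by norm_num)
  · exact hA1
  · exact hB1
  · exact Nat.coprime_one_right p

/-- Forms of the same sign, dimension zero included. -/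
theorem exists_frame_iso {V W : Type u} [AddCommGroup V] [Module F V] [FiniteDimensional F V] [AddCommGroup W]
    [Module F W] [FiniteDimensional F W] {Q : QuadraticForm F V} {R : QuadraticForm F W} {k : ℕ}
    (hV : Module.finrank F V = 2 * k) (hW : Module.finrank F W = 2 * k)
    (hQ : (polarBilin Q).Nondegenerate) (hR : (polarBilin R).Nondegenerate)
    (h : OrthPrime.qsgn Q = OrthPrime.qsgn R) : ∃ e : V ≃ₗ[F] W, ∀ v, R (e v) = Q v := by
  rcases Nat.eq_zero_or_pos k with rfl | hk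
  · haveI : Subsingleton V := Module.finrank_zero_iff.1 (by simpa using hV)
    refine ⟨LinearEquiv.ofFinrankEq V W (hV.trans hW.symm), fun v => ?_⟩
    rw [Subsingleton.elim v 0, map_zero, map_zero, map_zero]
  · exact FormConj.exists_isometry_of_type hk hV hW hQ hR
      (by rw [← OrthPrime.qsgn_eq_one_iff, ← OrthPrime.qsgn_eq_one_iff, h])

theorem qsgn_zero_dim {V : Type u} [AddCommGroup V] [Module F V] [FiniteDimensional F V] (R : QuadraticForm F V)
    (h : Module.finrank F V = 0) : OrthPrime.qsgn R = 1 :=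
  (OrthPrime.qsgn_eq_one_iff R).2 ⟨⊥, by simp [h], fun u hu => by simp [(Submodule.mem_bot F).1 hu]⟩

/-- An element of `Ω` made of `t` and an odd-order isometry `y` on an orthogonal decomposition. -/
theorem glue (h2 : (2 : F) ≠ 0) {ι : Type} [Fintype ι] [DecidableEq ι] {Q : QuadraticForm F (ι → F)}
    (hQ : (polarBilin Q).Nondegenerate) (hn : 2 ≤ Fintype.card ι) {k : ℕ} {R : QuadraticForm F (Fin (2 * k) → F)}
    {V : Type u} [AddCommGroup V] [Module F V] {T : QuadraticForm F V}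
    (φ : ((Fin (2 * k) → F) × V) ≃ₗ[F] (ι → F)) (hφ : ∀ z, Q (φ z) = R.prod T z)
    (t : ↥(Cfsg.isometryGroup F ⇑R)) (ht : t ∈ Cfsg.Omega F ⇑R) (y : V ≃ₗ[F] V) (hy : ∀ v, T (y v) = T v)
    {m : ℕ} (hm : Odd m) (hym : y ^ m = 1) :
    ∃ g : ↥(Cfsg.Omega F ⇑Q), Forms.isoToEquiv _ g.1 = conjHom φ (prodHom _ _ (Forms.isoToEquiv _ t, y)) := by
  have hiso : ∀ (a : (Fin (2 * k) → F) ≃ₗ[F] (Fin (2 * k) → F)) (b : V ≃ₗ[F] V),
      (∀ u, R (a u) = R u) → (∀ u, T (b u) = T u) → ∀ v, Q (conjHom φ (prodHom _ _ (a, b)) v) = Q v := by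
    intro a b ha hb v
    obtain ⟨z, rfl⟩ := φ.surjective v
    show Q (φ (prodHom _ _ (a, b) (φ.symm (φ z)))) = _
    rw [hφ, φ.symm_apply_apply, hφ]
    show R.prod T (a z.1, b z.2) = _
    simp [QuadraticMap.prod_apply, ha, hb]
  have hR : ∀ (s : ↥(Cfsg.isometryGroup F ⇑R)) u, R (Forms.isoToEquiv _ s u) = R u := fun s u =>
    Forms.isometryGroup_apply s u
  let ψ : ↥(Cfsg.isometryGroup F ⇑R) →* ↥(Cfsg.isometryGroup F ⇑Q) :=
    MonoidHom.mk' (fun s => Forms.isoMk _ (hiso (Forms.isoToEquiv _ s) 1 (hR s) fun _ => rfl)) fun a b =>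
      Forms.isoToEquiv_injective _ (by
        simp only [map_mul, Forms.isoToEquiv_isoMk]
        rw [← map_mul (conjHom φ), ← map_mul (prodHom _ _), Prod.mk_mul_mk, one_mul])
  have hψ : ψ t ∈ Cfsg.Omega F ⇑Q := by
    have : (Cfsg.Omega F ⇑R).map ψ ≤ Cfsg.Omega F ⇑Q := by
      simp only [Cfsg.Omega, commutator, Subgroup.map_commutator]
      exact Subgroup.commutator_mono le_top le_top
    exact this ⟨t, ht, rfl⟩
  set w := Forms.isoMk _ (hiso 1 y (fun _ => rfl) hy) with hw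
  have hwm : w ∈ Cfsg.Omega F ⇑Q := by
    refine odd_pow_mem h2 hQ hn hm (Forms.isoToEquiv_injective _ ?_)
    rw [map_pow, hw, Forms.isoToEquiv_isoMk, ← map_pow, ← map_pow, Prod.pow_mk, one_pow, hym, Prod.mk_one_one,
      map_one, map_one, map_one]
  refine ⟨⟨ψ t * w, mul_mem hψ hwm⟩, ?_⟩
  show Forms.isoToEquiv _ (ψ t * w) = _
  rw [map_mul, hw, Forms.isoToEquiv_isoMk, show Forms.isoToEquiv _ (ψ t) =
    conjHom φ (prodHom _ _ (Forms.isoToEquiv _ t, 1)) from Forms.isoToEquiv_isoMk _ (hiso _ 1 (hR t) fun _ => rfl), ← map_mul (conjHom φ), ← map_mul (prodHom _ _),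
    Prod.mk_mul_mk, mul_one, one_mul]

theorem orderOf_glue {ι : Type} [Fintype ι] [DecidableEq ι] {Q : (ι → F) → F} {k : ℕ}
    {R : (Fin (2 * k) → F) → F} {V : Type u} [AddCommGroup V] [Module F V]
    (φ : ((Fin (2 * k) → F) × V) ≃ₗ[F] (ι → F)) (g : ↥(Cfsg.Omega F Q)) (t : ↥(Cfsg.isometryGroup F R))
    (y : V ≃ₗ[F] V) (h : Forms.isoToEquiv _ g.1 = conjHom φ (prodHom _ _ (Forms.isoToEquiv _ t, y))) :
    orderOf g = Nat.lcm (orderOf t) (orderOf y) := by
  rw [← orderOf_injective (Cfsg.Omega F Q).subtype Subtype.val_injective, Subgroup.coe_subtype,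
    ← orderOf_injective _ (Forms.isoToEquiv_injective _), h, orderOf_injective _ (conjHom_injective φ),
    orderOf_injective _ (prodHom_injective _ _), Prod.orderOf, orderOf_injective _ (Forms.isoToEquiv_injective _)]

theorem pBound_dvd (h2 : (2 : F) ≠ 0) {V : Type u} [AddCommGroup V] [Module F V] [FiniteDimensional F V]
    (R : QuadraticForm F V) (hR : (polarBilin R).Nondegenerate) (c : ℕ) (hd : 2 * c + 1 ≤ Module.finrank F V) :
    ∃ y : V ≃ₗ[F] V, (∀ v, R (y v) = R v) ∧ (∃ m, Odd m ∧ y ^ m = 1) ∧ pBound (ringChar F) c ∣ orderOf y := by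
  haveI : Fact (ringChar F).Prime := ⟨prime_ringChar⟩
  set p := ringChar F with hp
  have hpo : Odd p := (prime_ringChar (F := F)).odd_of_ne_two (POmegaSemi.ringChar_ne_two_of h2)
  obtain ⟨y, v, hy, h1, h3, -⟩ := unip_elem h2 (p := p) c R hR hd
  obtain ⟨e, he⟩ := pBound_eq_pow p c
  have hge := pBound_ge (prime_ringChar (F := F)).two_le hpo c
  refine ⟨y, hy, ⟨p ^ e, hpo.pow, h1 e (he ▸ hge)⟩, ?_⟩
  unfold pBound
  split_ifs with hc
  · exact one_dvd _
  · set f := Nat.log p (2 * c - 1)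
    have hf : p ^ f ≤ 2 * c - 1 := Nat.pow_log_le_self p (by omega)
    have hge' : 2 * c + 1 ≤ p ^ (f + 1) := by
      have := hge
      rwa [← hp, pBound, if_neg hc] at this
    rw [orderOf_eq_prime_pow (h3 f (by omega)) (h1 _ hge')]

/-- Every row is realised in `Ω₉(q)`. -/
theorem nine_elem (h2 : (2 : F) ≠ 0) (j : Fin 14) :
    ∃ g : ↥(Cfsg.Omega F ⇑(Orth.oddForm 4 F)), mRow F j ∣ orderOf g := by
  have htor := tor_row h2 j
  have hc : cRow j ≤ 4 := by fin_cases j <;> simp [cRow]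
  obtain ⟨c, hcdef⟩ : ∃ c, cRow j = c := ⟨_, rfl⟩
  rw [hcdef] at htor hc
  obtain ⟨L, hL, R, hR, -, t, ht, hLt⟩ := htor
  set Q := Orth.oddForm 4 F
  have hQ := Orth.oddForm_nondegenerate (F := F) h2 4
  have hdim : Module.finrank F (Unit ⊕ (Fin 4 ⊕ Fin 4) → F) = 9 := by simp
  obtain ⟨W, hW, hWd, hWs⟩ := OrthPrime.exists_nd_sub (Q := Q) hQ (fun _ => h2) (l := 4 - c)
    (OrthPrime.qsgn_cases R) (fun h => qsgn_zero_dim R (by simp [h])) (Or.inl (by omega))
  obtain ⟨e, he⟩ := exists_frame_iso (Q := R) (R := OrthPrime.rQ Q W) (Module.finrank_fin_fun F) hWd hR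
    ((OrthPrime.nd_iff Q W).2 hW) hWs.symm
  set W' := OrthPrime.qperp Q W
  have hW'n := (OrthPrime.nd_iff Q W').2 (OrthPrime.nd_qperp Q hQ hW)
  have hW'd : Module.finrank F W + Module.finrank F W' = Module.finrank F (Unit ⊕ (Fin 4 ⊕ Fin 4) → F) :=
    OrthPrime.finrank_qperp Q hW
  obtain ⟨y, hy, ⟨m, hm, hym⟩, hP⟩ := pBound_dvd h2 (OrthPrime.rQ Q W') hW'n c (by omega)
  let φ := (e.prodCongr (LinearEquiv.refl F W')).trans (OrthPrime.splitEquiv Q hW)
  have hφ : ∀ z, Q (φ z) = R.prod (OrthPrime.rQ Q W') z := fun z => by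
    show Q (OrthPrime.splitEquiv Q hW (e z.1, z.2)) = _
    rw [OrthPrime.splitEquiv_form, QuadraticMap.prod_apply, QuadraticMap.prod_apply, he]
  obtain ⟨g, hg⟩ := glue h2 hQ (by simp) φ hφ t ht y hy hm hym
  refine ⟨g, ?_⟩
  rw [orderOf_glue φ g t y hg]
  rw [mRow, hcdef]
  refine Nat.Coprime.mul_dvd_of_dvd_of_dvd ?_ (hP.trans (Nat.dvd_lcm_right _ _))
    ((hL.trans hLt).trans (Nat.dvd_lcm_left _ _))
  obtain ⟨e, he⟩ := pBound_eq_pow (ringChar F) c
  rw [he]
  exact (coprime_LRow h2 j).pow_left e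

variable (a b : F)

/-- Every row is realised in `V ⋊ Ω₈⁻(q)`. -/
theorem aff_elem (h2 : (2 : F) ≠ 0) (hab : ∀ z₁ z₂ : F, z₁ ^ 2 + a * z₁ * z₂ + b * z₂ ^ 2 = 0 → z₁ = 0 ∧ z₂ = 0)
    (j : Fin 14) : ∃ z : Aff ⇑(StdForms.minusQ F 3 a b), mRow F j ∣ orderOf z := by
  classical
  have htor := tor_row h2 j
  have hc : cRow j ≤ 4 := by fin_cases j <;> simp [cRow]
  obtain ⟨c, hcdef⟩ : ∃ c, cRow j = c := ⟨_, rfl⟩
  rw [hcdef] at htor hc
  obtain ⟨L, hL, R, hR, hRs, t, ht, hLt⟩ := htor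
  set Q := StdForms.minusQ F 3 a b
  have hQ : (polarBilin Q).Nondegenerate := StdForms.minusQ_nondegenerate hab 3
  obtain ⟨T, hT, hTs⟩ : ∃ T : QuadraticForm F (Fin (2 * c) → F),
      (polarBilin T).Nondegenerate ∧ OrthPrime.qsgn R * OrthPrime.qsgn T = -1 := by
    rcases Nat.eq_zero_or_pos c with h0 | hpos
    · refine ⟨0, StdForms.nondegenerate_of_left _ fun u _ => funext fun i => absurd i.isLt (by omega), ?_⟩
      rw [hRs (by omega), qsgn_zero_dim _ (by simp [h0]), mul_one]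
    · rcases OrthPrime.qsgn_cases R with hs | hs
      · obtain ⟨T, -, hT, hTs, -⟩ := gen_minus h2 (F := F) hpos
        exact ⟨T, hT, by rw [hs, hTs, one_mul]⟩
      · obtain ⟨T, -, hT, hTs, -⟩ := gen_plus h2 (F := F) hpos
        exact ⟨T, hT, by rw [hs, hTs, mul_one]⟩
  have hd1 : Module.finrank F (Fin (2 * (4 - c)) → F) = 2 * (4 - c) := Module.finrank_fin_fun F
  have hd2 : Module.finrank F (Fin (2 * c) → F) = 2 * c := Module.finrank_fin_fun F
  obtain ⟨φ, hφ⟩ := FormConj.exists_isometry_of_type (m := 4) (by norm_num)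
    (V := (Fin (2 * (4 - c)) → F) × (Fin (2 * c) → F)) (W := (Fin 3 ⊕ Fin 3) ⊕ Fin 2 → F)
    (by rw [Module.finrank_prod, hd1, hd2]; omega) (by simp)
    (FormConj.prod_nondegenerate hR hT) hQ
    (iff_of_false (fun h => by
      have h' := (OrthPrime.qsgn_eq_one_iff _).2 h
      rw [OrthPrime.qsgn_prod hd1 hd2 hR hT, hTs] at h'
      norm_num at h') (FormConj.not_isHyp_minusQ 3 hab))
  haveI : Fact (ringChar F).Prime := ⟨prime_ringChar⟩
  set p := ringChar F with hp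
  have hpo : Odd p := (prime_ringChar (F := F)).odd_of_ne_two (POmegaSemi.ringChar_ne_two_of h2)
  have hcop : Nat.Coprime (pBound p c) (LRow (Fintype.card F) j) := by
    obtain ⟨e, he⟩ := pBound_eq_pow p c
    rw [he]
    exact (coprime_LRow h2 j).pow_left e
  rcases Nat.eq_zero_or_pos c with h0 | hpos
  · obtain ⟨g, hg⟩ := glue h2 hQ (by simp) φ hφ t ht 1 (fun _ => rfl) (m := 1) odd_one (one_pow 1)
    refine ⟨SemidirectProduct.inr g, ?_⟩
    rw [orderOf_injective _ SemidirectProduct.inr_injective, orderOf_glue φ g t 1 hg, orderOf_one,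
      Nat.lcm_one_right, mRow, ← hp, hcdef, pBound, if_pos h0, one_mul]
    exact hL.trans hLt
  set f := Nat.log p (2 * c - 1) with hf
  have hf' : p ^ f ≤ 2 * c - 1 := Nat.pow_log_le_self p (by omega)
  obtain ⟨i, hi⟩ := (hpo.pow : Odd (p ^ f))
  obtain ⟨y, v, hy, h1, h3, hsum⟩ := unip_elem h2 (p := p) i T hT (by rw [hd2]; omega)
  have hy1 : y ^ p ^ f = 1 := h1 f (le_of_eq hi.symm)
  obtain ⟨g, hg⟩ := glue h2 hQ (by simp) φ hφ t ht y hy hpo.pow hy1
  set z : Aff ⇑Q := ⟨Multiplicative.ofAdd (φ (0, v)), g⟩ with hz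
  refine ⟨z, ?_⟩
  set n := orderOf z with hn
  obtain ⟨hgn, hvn⟩ := (aff_pow_eq_one_iff _ g n).1 (pow_orderOf_eq_one z)
  have hn' : Nat.lcm (orderOf t) (orderOf y) ∣ n := orderOf_glue φ g t y hg ▸ orderOf_dvd_of_pow_eq_one hgn
  rw [mRow, ← hp, hcdef]
  refine hcop.mul_dvd_of_dvd_of_dvd ?_ ((hL.trans hLt).trans ((Nat.dvd_lcm_left _ _).trans hn'))
  rw [pBound, if_neg hpos.ne', ← hf, pow_succ]
  obtain ⟨m, hm⟩ : p ^ f ∣ n := by
    rcases Nat.eq_zero_or_pos f with hf0 | hfpos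
    · rw [hf0, pow_zero]; exact one_dvd _
    · refine dvd_trans ?_ ((Nat.dvd_lcm_right _ _).trans hn')
      obtain ⟨f', hf''⟩ : ∃ f', f = f' + 1 := ⟨f - 1, by omega⟩
      have hlt : p ^ f' < p ^ f := Nat.pow_lt_pow_right (prime_ringChar (F := F)).one_lt (by omega)
      rw [hf''] at hy1 ⊢
      rw [orderOf_eq_prime_pow (h3 f' (by omega)) hy1]
  have hA : ∀ k : ℕ, (mat g ^ k).mulVec (φ (0, v)) = φ (0, (y ^ k) v) := fun k => by
    have e1 : (mat g ^ k).mulVec (φ (0, v)) = Forms.isoToEquiv _ (g.1 ^ k) (φ (0, v)) := by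
      rw [Forms.isoToEquiv_apply]; simp [mat]
    rw [e1, map_pow, hg, ← map_pow, ← map_pow, Prod.pow_mk]
    show φ (prodHom _ _ (Forms.isoToEquiv _ t ^ k, y ^ k) (φ.symm (φ (0, v)))) = _
    rw [φ.symm_apply_apply]
    show φ ((Forms.isoToEquiv _ t ^ k) 0, (y ^ k) v) = _
    rw [map_zero]
  have hS : ∑ k ∈ Finset.range n, (y ^ k) v = 0 := by
    rw [Matrix.sum_mulVec, Finset.sum_congr rfl fun k _ => hA k, ← map_sum] at hvn
    have := congrArg Prod.snd (φ.injective (hvn.trans (map_zero φ).symm))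
    rw [Prod.snd_sum] at this
    exact this
  have hper : ∀ k : ℕ, ∑ l ∈ Finset.range (p ^ f * k), (y ^ l) v = k • ∑ l ∈ Finset.range (p ^ f), (y ^ l) v := by
    intro k
    induction k with
    | zero => simp
    | succ k ih =>
      rw [mul_add, mul_one, Finset.sum_range_add, ih, succ_nsmul]
      congr 1
      exact Finset.sum_congr rfl fun l _ => by rw [pow_add, pow_mul, hy1, one_pow, one_mul]
  rw [hm] at hS ⊢
  rw [hper, ← Nat.cast_smul_eq_nsmul F] at hS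
  refine Nat.mul_dvd_mul_left _ ?_
  rw [hp]
  exact (ringChar.spec F m).1 ((smul_eq_zero.1 hS).resolve_right (hsum f hi))

theorem spectrum (h2 : (2 : F) ≠ 0) (hab : ∀ z₁ z₂ : F, z₁ ^ 2 + a * z₁ * z₂ + b * z₂ ^ 2 = 0 → z₁ = 0 ∧ z₂ = 0) :
    Set.range (orderOf : Cfsg.POmega F (Cfsg.quadFormOdd 4 F) → ℕ) =
      Set.range (orderOf : Aff (Cfsg.quadFormMinus 3 F a b) → ℕ) := by
  classical
  rw [← Orth.coe_oddForm, ← StdForms.coe_minusQ]
  set Q := Orth.oddForm 4 F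
  set Q' := StdForms.minusQ F 3 a b
  have hQ := Orth.oddForm_nondegenerate (F := F) h2 4
  have hQ' : (polarBilin Q').Nondegenerate := StdForms.minusQ_nondegenerate hab 3
  haveI : Finite (Aff ⇑Q') := Finite.of_injective (fun z : Aff ⇑Q' => (z.left, z.right)) fun z z' h =>
    SemidirectProduct.ext (congrArg Prod.fst h) (congrArg Prod.snd h)
  have hbot := Orth.center_omega_eq_bot h2 hQ (by simp) (by simp; decide)
  have hinj : Function.Injective (QuotientGroup.mk' (Subgroup.center ↥(Cfsg.Omega F ⇑Q))) := by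
    rw [← MonoidHom.ker_eq_bot_iff, QuotientGroup.ker_mk', hbot]
  ext n
  constructor
  · rintro ⟨x, rfl⟩
    obtain ⟨g, rfl⟩ := QuotientGroup.mk'_surjective _ x
    rw [orderOf_injective _ hinj]
    obtain ⟨j, hj, -⟩ := pow_mRow_eq_one h2 hQ (Or.inr (by simp)) g
    obtain ⟨z, hz⟩ := aff_elem a b h2 hab j
    exact ElementOrders.exists_orderOf_eq_of_dvd (x := z) ((orderOf_dvd_of_pow_eq_one hj).trans hz)
  · rintro ⟨z, rfl⟩
    obtain ⟨j, hj⟩ := aff_orderOf_dvd h2 hQ' (by simp) z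
    obtain ⟨g, hg⟩ := nine_elem h2 j
    obtain ⟨g', hg'⟩ := ElementOrders.exists_orderOf_eq_of_dvd (x := g) (hj.trans hg)
    exact ⟨QuotientGroup.mk' _ g', by rw [orderOf_injective _ hinj, hg']⟩

end Cfsg.Agent.Lib.SpectrumNine
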